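import Mathlib
import Cfsg.Prelude
import Cfsg.Agent.S0278
import Cfsg.Agent.S0754
import Cfsg.Agent.S0779
import Cfsg.Agent.S0837
import Cfsg.Agent.Lib.Helper3.HermCount
import Cfsg.Agent.Lib.Helper3.UnitaryCount

set_option autoImplicit false
set_option linter.unusedVariables false
set_option linter.unusedSectionVars false
set_option linter.style.haveILetI false
set_option linter.unnecessarySeqFocus false

/-!
Involutions of the special unitary group in odd characteristic: the "reflection" `x ↦ 2 h(x,a) a - x`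
attached to a vector `a` of norm one.
-/

namespace Cfsg.Agent.Lib.Helper7.SU3Invol

open Cfsg

section alg

variable {F : Type*} [Field F] {q : ℕ} {n : ℕ}

theorem h_add_left (x x' y : Fin n → F) :
    hermForm n F q (x + x') y = hermForm n F q x y + hermForm n F q x' y := by
  simp only [hermForm, Pi.add_apply, add_mul, Finset.sum_add_distrib]

theorem h_smul_left (c : F) (x y : Fin n → F) :
    hermForm n F q (c • x) y = c * hermForm n F q x y := by
  simp only [hermForm, Pi.smul_apply, smul_eq_mul, Finset.mul_sum, mul_assoc]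

theorem h_sub_left (x x' y : Fin n → F) :
    hermForm n F q (x - x') y = hermForm n F q x y - hermForm n F q x' y := by
  simp only [hermForm, Pi.sub_apply, sub_mul, Finset.sum_sub_distrib]

variable (φ : F →+* F) (hφ : ∀ a : F, φ a = a ^ q)

include hφ in
theorem h_add_right (x y y' : Fin n → F) :
    hermForm n F q x (y + y') = hermForm n F q x y + hermForm n F q x y' := by
  simp only [hermForm, Pi.add_apply, ← hφ, map_add, mul_add, Finset.sum_add_distrib]

include hφ in
theorem h_smul_right (c : F) (x y : Fin n → F) :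
    hermForm n F q x (c • y) = φ c * hermForm n F q x y := by
  simp only [hermForm, Pi.smul_apply, smul_eq_mul, ← hφ, map_mul, Finset.mul_sum]
  apply Finset.sum_congr rfl
  intro i _
  ring

include hφ in
theorem h_sub_right (x y y' : Fin n → F) :
    hermForm n F q x (y - y') = hermForm n F q x y - hermForm n F q x y' := by
  simp only [hermForm, Pi.sub_apply, ← hφ, map_sub, mul_sub, Finset.sum_sub_distrib]

include hφ in
theorem h_symm (hφ2 : ∀ a : F, φ (φ a) = a) (x y : Fin n → F) :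
    hermForm n F q y x = φ (hermForm n F q x y) := by
  simp only [hermForm, ← hφ, map_sum, map_mul, hφ2]
  apply Finset.sum_congr rfl
  intro i _
  ring

theorem h_single_right (hq0 : q ≠ 0) (x : Fin n → F) (j : Fin n) :
    hermForm n F q x (Pi.single j 1) = x j := by
  simp only [hermForm]
  rw [Finset.sum_eq_single j]
  · simp
  · intro b _ hb
    simp [hb, hq0]
  · intro h
    exact absurd (Finset.mem_univ j) h

theorem h_single_left (y : Fin n → F) (j : Fin n) :
    hermForm n F q (Pi.single j 1) y = y j ^ q := by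
  simp only [hermForm]
  rw [Finset.sum_eq_single j]
  · simp
  · intro b _ hb
    simp [hb]
  · intro h
    exact absurd (Finset.mem_univ j) h

/-- the matrix of `x ↦ 2 h(x,a) a - x` -/
def Tm (q : ℕ) (a : Fin n → F) : Matrix (Fin n) (Fin n) F :=
  Matrix.of (fun i j => 2 * (a i * a j ^ q)) - 1

theorem Tm_apply (a : Fin n → F) (i j : Fin n) :
    Tm q a i j = 2 * (a i * a j ^ q) - (1 : Matrix (Fin n) (Fin n) F) i j := rfl

theorem Tm_mulVec (a x : Fin n → F) :
    (Tm q a).mulVec x = (2 * hermForm n F q x a) • a - x := by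
  ext i
  rw [Tm, Matrix.sub_mulVec, Matrix.one_mulVec]
  simp only [Pi.sub_apply, Pi.smul_apply, smul_eq_mul,
    Matrix.mulVec, dotProduct, Matrix.of_apply, hermForm, Finset.mul_sum, Finset.sum_mul]
  congr 1
  apply Finset.sum_congr rfl
  intro j _
  ring

include hφ in
theorem two_fix : φ (2 : F) = 2 := by
  rw [map_ofNat]

include hφ in
theorem Tm_pres (hφ2 : ∀ a : F, φ (φ a) = a) (a : Fin n → F) (ha : hermForm n F q a a = 1)
    (x y : Fin n → F) :
    hermForm n F q ((Tm q a).mulVec x) ((Tm q a).mulVec y) = hermForm n F q x y := by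
  rw [Tm_mulVec, Tm_mulVec, h_sub_left, h_sub_right φ hφ, h_sub_right φ hφ, h_smul_left, h_smul_left,
    h_smul_right φ hφ, h_smul_right φ hφ, ha, map_mul, map_ofNat, h_symm φ hφ hφ2 y a]
  ring

theorem mat_ext_vec {M N : Matrix (Fin n) (Fin n) F} (h : ∀ x, M.mulVec x = N.mulVec x) :
    M = N := by
  ext i j
  have h1 := congrFun (h (Pi.single j 1)) i
  rw [Matrix.mulVec_single_one, Matrix.mulVec_single_one] at h1
  simpa [Matrix.col_apply] using h1

theorem Tm_sq (a : Fin n → F) (ha : hermForm n F q a a = 1) : Tm q a * Tm q a = 1 := by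
  apply mat_ext_vec
  intro x
  rw [← Matrix.mulVec_mulVec, Matrix.one_mulVec, Tm_mulVec, Tm_mulVec, h_sub_left, h_smul_left, ha]
  ext i
  simp only [Pi.sub_apply, Pi.smul_apply, smul_eq_mul]
  ring

theorem Tm_det (a : Fin 3 → F) (ha : hermForm 3 F q a a = 1) : (Tm q a).det = 1 := by
  rw [Matrix.det_fin_three]
  simp only [hermForm, Fin.sum_univ_three] at ha
  simp only [Tm_apply, Matrix.one_apply_eq, Matrix.one_apply_ne, ne_eq, Fin.reduceEq,
    not_false_eq_true]
  linear_combination (2 : F) * ha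

/-- `Tm` only depends on the vector up to scalars of norm one -/
theorem Tm_smul (ε : F) (hε : ε ^ (q + 1) = 1) (a : Fin n → F) : Tm q (ε • a) = Tm q a := by
  ext i j
  rw [Tm_apply, Tm_apply, Pi.smul_apply, Pi.smul_apply, smul_eq_mul, smul_eq_mul, mul_pow]
  have : ε * a i * (ε ^ q * a j ^ q) = ε ^ (q + 1) * (a i * a j ^ q) := by ring
  rw [this, hε, one_mul]

include hφ in
theorem Tm_eq_iff (a b : Fin n → F) (ha : hermForm n F q a a = 1) (hb : hermForm n F q b b = 1)
    (h2 : (2 : F) ≠ 0) :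
    Tm q a = Tm q b ↔ ∃ ε : F, ε ^ (q + 1) = 1 ∧ b = ε • a := by
  constructor
  · intro h
    have h1 := congrArg (fun M : Matrix (Fin n) (Fin n) F => M.mulVec b) h
    simp only [Tm_mulVec, hb] at h1
    have h3 : b = hermForm n F q b a • a := by
      ext i
      have h4 := congrFun h1 i
      simp only [Pi.sub_apply, Pi.smul_apply, smul_eq_mul] at h4 ⊢
      have h5 : 2 * (b i - hermForm n F q b a * a i) = 0 := by linear_combination -h4
      rcases mul_eq_zero.mp h5 with h6 | h6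
      · exact absurd h6 h2
      · exact sub_eq_zero.mp h6
    refine ⟨hermForm n F q b a, ?_, h3⟩
    have h7 := hb
    rw [h3, h_smul_left, h_smul_right φ hφ, ha, mul_one, hφ] at h7
    rw [pow_succ, mul_comm]
    exact h7
  · rintro ⟨ε, hε, rfl⟩
    rw [Tm_smul ε hε]

end alg

section three

variable {F : Type*} [Field F] {q : ℕ} {n : ℕ}

theorem adj3 (M : Matrix (Fin 3) (Fin 3) F) (i j : Fin 3) :
    2 * M.adjugate i j = 2 * (M * M) i j - (2 * M.trace) * M i j
      + (M.trace ^ 2 - (M * M).trace) * (1 : Matrix (Fin 3) (Fin 3) F) i j := by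
  fin_cases i <;> fin_cases j <;>
    simp [Matrix.adjugate_fin_three, Matrix.mul_apply, Fin.sum_univ_three, Matrix.trace] <;> ring

set_option maxHeartbeats 1600000 in
theorem minors_of_adj (M : Matrix (Fin 3) (Fin 3) F) (h : M.adjugate = 0) (i j k : Fin 3) :
    M j k * M i i = M j i * M i k := by
  have e : ∀ a b, M.adjugate a b = 0 := fun a b => by rw [h]; rfl
  have h00 := e 0 0
  have h01 := e 0 1
  have h02 := e 0 2
  have h10 := e 1 0
  have h11 := e 1 1
  have h12 := e 1 2
  have h20 := e 2 0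
  have h21 := e 2 1
  have h22 := e 2 2
  simp [Matrix.adjugate_fin_three] at h00 h01 h02 h10 h11 h12 h20 h21 h22
  fin_cases i <;> fin_cases j <;> fin_cases k <;> simp only [Fin.zero_eta, Fin.mk_one, Fin.reduceFinMk] <;>
    first
    | ring1
    | linear_combination h00
    | linear_combination -h00
    | linear_combination h01
    | linear_combination -h01
    | linear_combination h02
    | linear_combination -h02
    | linear_combination h10
    | linear_combination -h10
    | linear_combination h11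
    | linear_combination -h11
    | linear_combination h12
    | linear_combination -h12
    | linear_combination h20
    | linear_combination -h20
    | linear_combination h21
    | linear_combination -h21
    | linear_combination h22

theorem two_ne_zero_of_odd [Fintype F] (hF : Fintype.card F = q ^ 2) (hq : Odd q) :
    (2 : F) ≠ 0 := by
  intro h
  have h1 : addOrderOf (1 : F) ∣ 2 := by
    apply addOrderOf_dvd_of_nsmul_eq_zero
    simp [h]
  have h2 : addOrderOf (1 : F) ∣ Fintype.card F := addOrderOf_dvd_card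
  have h3 : addOrderOf (1 : F) ≠ 1 := by
    intro h4
    rw [AddMonoid.addOrderOf_eq_one_iff] at h4
    exact one_ne_zero h4
  have h5 : addOrderOf (1 : F) = 2 := by
    rcases (Nat.dvd_prime Nat.prime_two).mp h1 with h | h
    · exact absurd h h3
    · exact h
  rw [h5, hF] at h2
  have h6 := Nat.Prime.dvd_of_dvd_pow Nat.prime_two h2
  rcases hq with ⟨k, rfl⟩
  omega

theorem invol_trace (h2 : (2 : F) ≠ 0) (T : Matrix (Fin 3) (Fin 3) F) (hT : T * T = 1)
    (hdet : T.det = 1) (hne : T ≠ 1) : T.trace = -1 := by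
  have hadj : T.adjugate = T := by
    have h1 := Matrix.mul_adjugate T
    rw [hdet, one_smul] at h1
    calc T.adjugate = (T * T) * T.adjugate := by rw [hT, one_mul]
      _ = T * (T * T.adjugate) := by rw [mul_assoc]
      _ = T := by rw [h1, mul_one]
  have h3 := adj3 T
  rw [hadj, hT, Matrix.trace_one] at h3
  simp only [Fintype.card_fin, Nat.cast_ofNat] at h3
  have h4 : ∀ i j, (2 + 2 * T.trace) * T i j
      = (T.trace ^ 2 - 1) * (1 : Matrix (Fin 3) (Fin 3) F) i j := by
    intro i j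
    linear_combination h3 i j
  have h5 : (2 + 2 * T.trace) * T.trace = (T.trace ^ 2 - 1) * 3 := by
    have e0 := h4 0 0
    have e1 := h4 1 1
    have e2 := h4 2 2
    rw [Matrix.one_apply_eq] at e0 e1 e2
    have e3 : T.trace = T 0 0 + T 1 1 + T 2 2 := by
      rw [Matrix.trace, Fin.sum_univ_three]
      rfl
    linear_combination e0 + e1 + e2 + (2 + 2 * T.trace) * e3
  have h6 : (T.trace - 3) * (T.trace + 1) = 0 := by linear_combination -h5
  rcases mul_eq_zero.mp h6 with h7 | h7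
  · exfalso
    have h8 : T.trace = 3 := by linear_combination h7
    apply hne
    ext i j
    have h9 := h4 i j
    rw [h8] at h9
    have h10 : (2 : F) * 2 * 2 * (T i j - (1 : Matrix (Fin 3) (Fin 3) F) i j) = 0 := by
      linear_combination h9
    rcases mul_eq_zero.mp h10 with h11 | h11
    · exact absurd h11 (mul_ne_zero (mul_ne_zero h2 h2) h2)
    · exact sub_eq_zero.mp h11
  · linear_combination h7

theorem herm_entries (hq0 : q ≠ 0) (T : Matrix (Fin n) (Fin n) F) (hT : T * T = 1)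
    (hpres : ∀ u v, hermForm n F q (T.mulVec u) (T.mulVec v) = hermForm n F q u v)
    (j k : Fin n) : T j k = T k j ^ q := by
  have h1 := hpres (Pi.single k 1) (T.mulVec (Pi.single j 1))
  rw [Matrix.mulVec_mulVec, hT, Matrix.one_mulVec, h_single_right hq0, h_single_left] at h1
  rw [Matrix.mulVec_single_one, Matrix.mulVec_single_one] at h1
  simpa [Matrix.col_apply] using h1

theorem invol_structure [Fintype F] (hF : Fintype.card F = q ^ 2) (hq : Odd q)
    (T : Matrix (Fin 3) (Fin 3) F) (hT : T * T = 1) (hdet : T.det = 1) (hne : T ≠ 1)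
    (hpres : ∀ u v, hermForm 3 F q (T.mulVec u) (T.mulVec v) = hermForm 3 F q u v) :
    ∃ a : Fin 3 → F, hermForm 3 F q a a = 1 ∧ T = Tm q a := by
  have h2 := two_ne_zero_of_odd hF hq
  have hq0 : q ≠ 0 := by
    rintro rfl
    simp at hq
  obtain ⟨φ, hφ, hφ2⟩ := Cfsg.Agent.S0779.exists_frob hF
  have htr := invol_trace h2 T hT hdet hne
  set M : Matrix (Fin 3) (Fin 3) F := 1 + T with hM
  have hMM : M * M = (2 : F) • M := by
    simp only [hM, add_mul, mul_add, one_mul, mul_one, hT]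
    rw [two_smul]
    abel
  have hMtr : M.trace = 2 := by
    rw [hM, Matrix.trace_add, Matrix.trace_one, htr]
    simp only [Fintype.card_fin, Nat.cast_ofNat]
    norm_num
  have hadj : M.adjugate = 0 := by
    ext i j
    have h3 := adj3 M i j
    rw [hMM, Matrix.trace_smul, hMtr, Matrix.smul_apply, smul_eq_mul, smul_eq_mul] at h3
    have h4 : (2 : F) * M.adjugate i j = 0 := by
      rw [h3]
      ring
    rcases mul_eq_zero.mp h4 with h5 | h5
    · exact absurd h5 h2
    · exact h5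
  have hmin := minors_of_adj M hadj
  have hherm : ∀ j k, M j k = φ (M k j) := by
    intro j k
    rw [hM, Matrix.add_apply, Matrix.add_apply, map_add, hφ (T k j),
      ← herm_entries hq0 T hT hpres j k]
    congr 1
    rw [Matrix.one_apply, Matrix.one_apply]
    by_cases hjk : j = k
    · subst hjk
      simp
    · rw [if_neg hjk, if_neg (Ne.symm hjk), map_zero]
  have hex : ∃ i, M i i ≠ 0 := by
    by_contra hcon
    push Not at hcon
    rw [Matrix.trace, Fin.sum_univ_three] at hMtr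
    simp only [Matrix.diag_apply, hcon] at hMtr
    apply h2
    rw [← hMtr]
    simp
  obtain ⟨i, hi⟩ := hex
  have hμfix : φ (M i i) = M i i := (hherm i i).symm
  have hμ' : (2 * M i i)⁻¹ ≠ 0 := inv_ne_zero (mul_ne_zero h2 hi)
  have hμq : ((2 * M i i)⁻¹) ^ q = (2 * M i i)⁻¹ := by
    rw [← hφ, map_inv₀, map_mul, hμfix, map_ofNat]
  have hcard := Cfsg.Agent.S0754.result hF _ hμ' hμq
  have hne' : Nonempty {x : F // x ^ (q + 1) = (2 * M i i)⁻¹} := by
    by_contra hcon
    rw [not_nonempty_iff] at hcon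
    rw [Nat.card_of_isEmpty] at hcard
    omega
  obtain ⟨⟨s, hs⟩⟩ := hne'
  have h8 : 2 * M i i * s ^ (q + 1) = 1 := by
    rw [hs]
    field_simp
  refine ⟨fun j => s * M j i, ?_, ?_⟩
  · have h9 := congrFun (congrFun hMM i) i
    rw [Matrix.mul_apply, Matrix.smul_apply, smul_eq_mul] at h9
    simp only [hermForm]
    have h10 : ∀ j, s * M j i * (s * M j i) ^ q = s ^ (q + 1) * (M i j * M j i) := by
      intro j
      rw [mul_pow, ← hφ (M j i), ← hherm i j]
      ring
    rw [Finset.sum_congr rfl (fun j _ => h10 j), ← Finset.mul_sum, h9]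
    linear_combination h8
  · ext j k
    rw [Tm_apply]
    have h5 : (s * M k i) ^ q = s ^ q * M i k := by
      rw [mul_pow, ← hφ (M k i), ← hherm i k]
    have h6 := hmin i j k
    have h7 : T j k = M j k - (1 : Matrix (Fin 3) (Fin 3) F) j k := by
      rw [hM]
      simp
    rw [h7, h5]
    linear_combination (-(M j k)) * h8 + (2 * s ^ (q + 1)) * h6

end three

section alg2

variable {F : Type*} [Field F] {q : ℕ} {n : ℕ}

/-- the matrix of `x ↦ h(x,a) a` -/
def Am (q : ℕ) (a : Fin n → F) : Matrix (Fin n) (Fin n) F :=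
  Matrix.of (fun i j => a i * a j ^ q)

theorem Am_apply (a : Fin n → F) (i j : Fin n) : Am q a i j = a i * a j ^ q := rfl

theorem Tm_eq_Am (a : Fin n → F) : Tm q a = (2 : F) • Am q a - 1 := by
  ext i j
  rw [Tm_apply, Matrix.sub_apply, Matrix.smul_apply, Am_apply, smul_eq_mul]

theorem Am_mul (a b : Fin n → F) :
    Am q a * Am q b = hermForm n F q b a • Matrix.of (fun i j => a i * b j ^ q) := by
  ext i j
  simp only [Matrix.mul_apply, Am, Matrix.of_apply, Matrix.smul_apply, smul_eq_mul, hermForm,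
    Finset.sum_mul]
  apply Finset.sum_congr rfl
  intro k _
  ring

theorem Am_mulVec (a x : Fin n → F) : (Am q a).mulVec x = hermForm n F q x a • a := by
  ext i
  simp only [Pi.smul_apply, smul_eq_mul, Matrix.mulVec, dotProduct, Am_apply, hermForm,
    Finset.sum_mul]
  apply Finset.sum_congr rfl
  intro j _
  ring

/-- the matrix of `x ↦ x + (ε - 1) h(x,a) a` -/
def Dm (q : ℕ) (ε : F) (a : Fin n → F) : Matrix (Fin n) (Fin n) F :=
  1 + (ε - 1) • Am q a

theorem Dm_mulVec (ε : F) (a x : Fin n → F) :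
    (Dm q ε a).mulVec x = x + ((ε - 1) * hermForm n F q x a) • a := by
  rw [Dm, Matrix.add_mulVec, Matrix.one_mulVec, Matrix.smul_mulVec, Am_mulVec, smul_smul]

theorem Dm_comm (ε : F) (a : Fin n → F) : Dm q ε a * Tm q a = Tm q a * Dm q ε a := by
  rw [Tm_eq_Am, Dm]
  simp only [mul_sub, sub_mul, add_mul, mul_add, mul_one, one_mul, smul_mul_assoc,
    mul_smul_comm, smul_sub, smul_add]
  module

theorem Dm_det (ε : F) (a : Fin 3 → F) (ha : hermForm 3 F q a a = 1) : (Dm q ε a).det = ε := by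
  rw [Matrix.det_fin_three]
  simp only [hermForm, Fin.sum_univ_three] at ha
  simp only [Dm, Matrix.add_apply, Matrix.smul_apply, Am_apply, smul_eq_mul, Matrix.one_apply_eq,
    Matrix.one_apply_ne, ne_eq, Fin.reduceEq, not_false_eq_true]
  linear_combination (ε - 1) * ha

variable (φ : F →+* F) (hφ : ∀ a : F, φ a = a ^ q)

include hφ in
theorem Dm_pres (hφ2 : ∀ a : F, φ (φ a) = a) (ε : F) (hε : ε ^ (q + 1) = 1) (a : Fin n → F)
    (ha : hermForm n F q a a = 1) (x y : Fin n → F) :
    hermForm n F q ((Dm q ε a).mulVec x) ((Dm q ε a).mulVec y) = hermForm n F q x y := by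
  have hε' : ε * φ ε = 1 := by
    rw [hφ, ← pow_succ', hε]
  rw [Dm_mulVec, Dm_mulVec]
  simp only [h_add_left, h_add_right φ hφ, h_smul_left, h_smul_right φ hφ, ha, map_mul, map_sub,
    map_one]
  rw [h_symm φ hφ hφ2 y a]
  linear_combination (hermForm n F q x a * φ (hermForm n F q y a)) * hε'

include hφ in
theorem Tm_comm_cases (hφ2 : ∀ a : F, φ (φ a) = a) (h2 : (2 : F) ≠ 0) (a b : Fin n → F)
    (ha : hermForm n F q a a = 1) (hb : hermForm n F q b b = 1)
    (hc : Tm q a * Tm q b = Tm q b * Tm q a) :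
    hermForm n F q a b = 0 ∨ Tm q a = Tm q b := by
  have h1 := congrArg (fun M : Matrix (Fin n) (Fin n) F => M.mulVec b) hc
  simp only [← Matrix.mulVec_mulVec, Tm_mulVec, hb, h_sub_left, h_smul_left] at h1
  have h3 : ∀ i, hermForm n F q b a * (a i - hermForm n F q a b * b i) = 0 := by
    intro i
    have h4 := congrFun h1 i
    simp only [Pi.sub_apply, Pi.smul_apply, smul_eq_mul] at h4
    have h5 : (2 : F) * 2 * (hermForm n F q b a * (a i - hermForm n F q a b * b i)) = 0 := by
      linear_combination h4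
    rcases mul_eq_zero.mp h5 with h6 | h6
    · exact absurd h6 (mul_ne_zero h2 h2)
    · exact h6
  by_cases h0 : hermForm n F q b a = 0
  · left
    rw [h_symm φ hφ hφ2 b a, h0, map_zero]
  · right
    have h7 : a = hermForm n F q a b • b := by
      ext i
      rcases mul_eq_zero.mp (h3 i) with h8 | h8
      · exact absurd h8 h0
      · rw [Pi.smul_apply, smul_eq_mul]
        exact sub_eq_zero.mp h8
    have h9 : hermForm n F q a b ^ (q + 1) = 1 := by
      have h10 := ha
      rw [h7, h_smul_left, h_smul_right φ hφ, hb, mul_one, hφ] at h10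
      rw [pow_succ, mul_comm]
      exact h10
    rw [h7, Tm_smul _ h9]

include hφ in
theorem resolution (hφ2 : ∀ a : F, φ (φ a) = a) (a b c : Fin 3 → F)
    (ha : hermForm 3 F q a a = 1) (hb : hermForm 3 F q b b = 1) (hc : hermForm 3 F q c c = 1)
    (hab : hermForm 3 F q a b = 0) (hac : hermForm 3 F q a c = 0) (hbc : hermForm 3 F q b c = 0) :
    Am q a + Am q b + Am q c = 1 := by
  have hba : hermForm 3 F q b a = 0 := by rw [h_symm φ hφ hφ2 a b, hab, map_zero]
  have hca : hermForm 3 F q c a = 0 := by rw [h_symm φ hφ hφ2 a c, hac, map_zero]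
  have hcb : hermForm 3 F q c b = 0 := by rw [h_symm φ hφ hφ2 b c, hbc, map_zero]
  set U : Matrix (Fin 3) (Fin 3) F := Matrix.of (fun i k => ![a, b, c] k i) with hU
  have h1 : (U.map φ).transpose * U = 1 := by
    ext k l
    rw [Matrix.mul_apply]
    simp only [Matrix.transpose_apply, Matrix.map_apply, hU, Matrix.of_apply, hφ]
    have h3 : ∀ (x y : Fin 3 → F), ∑ i, (x i) ^ q * y i = hermForm 3 F q y x := by
      intro x y
      simp only [hermForm]
      apply Finset.sum_congr rfl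
      intro i _
      ring
    rw [h3]
    fin_cases k <;> fin_cases l <;> simp [ha, hb, hc, hab, hac, hbc, hba, hca, hcb]
  have h4 := mul_eq_one_comm.mp h1
  ext i j
  have h5 := congrFun (congrFun h4 i) j
  rw [Matrix.mul_apply, Fin.sum_univ_three] at h5
  simpa [hU, hφ, Am_apply] using h5

include hφ in
theorem Tm_mul_of_orth (hφ2 : ∀ a : F, φ (φ a) = a) (a b c : Fin 3 → F)
    (ha : hermForm 3 F q a a = 1) (hb : hermForm 3 F q b b = 1) (hc : hermForm 3 F q c c = 1)
    (hab : hermForm 3 F q a b = 0) (hac : hermForm 3 F q a c = 0) (hbc : hermForm 3 F q b c = 0) :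
    Tm q a * Tm q b = Tm q c := by
  have hres := resolution φ hφ hφ2 a b c ha hb hc hab hac hbc
  have hba : hermForm 3 F q b a = 0 := by rw [h_symm φ hφ hφ2 a b, hab, map_zero]
  have hAB : Am q a * Am q b = 0 := by rw [Am_mul, hba, zero_smul]
  have h1 : Am q c = 1 - Am q a - Am q b := by
    rw [← hres]
    abel
  rw [Tm_eq_Am, Tm_eq_Am, Tm_eq_Am, h1]
  simp only [sub_mul, mul_sub, smul_mul_assoc, mul_smul_comm, hAB, mul_one, one_mul, smul_zero,
    smul_sub]
  module

theorem Tm_comm_of_orth (a b : Fin n → F) (hab : hermForm n F q a b = 0)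
    (hba : hermForm n F q b a = 0) : Tm q a * Tm q b = Tm q b * Tm q a := by
  have hAB : Am q a * Am q b = 0 := by rw [Am_mul, hba, zero_smul]
  have hBA : Am q b * Am q a = 0 := by rw [Am_mul, hab, zero_smul]
  rw [Tm_eq_Am, Tm_eq_Am]
  simp only [sub_mul, mul_sub, smul_mul_assoc, mul_smul_comm, hAB, hBA, mul_one, one_mul,
    smul_zero]
  module

end alg2

section su

variable {F : Type*} [Field F] [Fintype F] {q : ℕ}

theorem su_ext {x y : ↥(SU 3 F q)} (h : x.1.1 = y.1.1) : x = y := Subtype.ext (Subtype.ext h)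

theorem su_mul_val (x y : ↥(SU 3 F q)) : (x * y).1.1 = x.1.1 * y.1.1 := rfl

theorem su_one_val : (1 : ↥(SU 3 F q)).1.1 = 1 := rfl

theorem su_pres (x : ↥(SU 3 F q)) (u v : Fin 3 → F) :
    hermForm 3 F q (x.1.1.mulVec u) (x.1.1.mulVec v) = hermForm 3 F q u v := x.2 u v

theorem su_mem (g : Matrix.SpecialLinearGroup (Fin 3) F)
    (h : ∀ u v, hermForm 3 F q (g.1.mulVec u) (g.1.mulVec v) = hermForm 3 F q u v) :
    g ∈ SU 3 F q := h

/-- the involution of `SU 3` attached to a vector of norm one -/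
noncomputable def tmSU (hF : Fintype.card F = q ^ 2) (a : Fin 3 → F)
    (ha : hermForm 3 F q a a = 1) : ↥(SU 3 F q) :=
  ⟨⟨Tm q a, Tm_det a ha⟩, su_mem _ (by
    obtain ⟨φ, hφ, hφ2⟩ := Cfsg.Agent.S0779.exists_frob hF
    intro u v
    exact Tm_pres φ hφ hφ2 a ha u v)⟩

theorem tmSU_val (hF : Fintype.card F = q ^ 2) (a : Fin 3 → F)
    (ha : hermForm 3 F q a a = 1) : (tmSU hF a ha).1.1 = Tm q a := rfl

theorem tmSU_sq (hF : Fintype.card F = q ^ 2) (a : Fin 3 → F)
    (ha : hermForm 3 F q a a = 1) : tmSU hF a ha * tmSU hF a ha = 1 :=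
  su_ext (Tm_sq a ha)

theorem tmSU_ne_one (hF : Fintype.card F = q ^ 2) (hq : Odd q) (a : Fin 3 → F)
    (ha : hermForm 3 F q a a = 1) : tmSU hF a ha ≠ 1 := by
  intro h
  have h2 := two_ne_zero_of_odd hF hq
  have h1 : Tm q a = 1 := congrArg (fun x : ↥(SU 3 F q) => x.1.1) h
  have h3 := congrArg Matrix.trace h1
  simp only [Matrix.trace, Fin.sum_univ_three, Matrix.diag_apply, Tm_apply,
    Matrix.one_apply_eq] at h3
  simp only [hermForm, Fin.sum_univ_three] at ha
  have h4 : (2 : F) * 2 = 0 := by linear_combination (-1 : F) * h3 + 2 * ha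
  exact mul_ne_zero h2 h2 h4

theorem tmSU_eq_iff (hF : Fintype.card F = q ^ 2) (a b : Fin 3 → F)
    (ha : hermForm 3 F q a a = 1) (hb : hermForm 3 F q b b = 1) :
    tmSU hF a ha = tmSU hF b hb ↔ Tm q a = Tm q b :=
  ⟨fun h => congrArg (fun x : ↥(SU 3 F q) => x.1.1) h, fun h => su_ext h⟩

theorem exists_tm (hF : Fintype.card F = q ^ 2) (hq : Odd q) (x : ↥(SU 3 F q)) (hx : x ≠ 1)
    (hx2 : x * x = 1) : ∃ a, ∃ ha : hermForm 3 F q a a = 1, x = tmSU hF a ha := by
  have h1 : x.1.1 * x.1.1 = 1 := by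
    rw [← su_mul_val, hx2]
    rfl
  have h2 : x.1.1 ≠ 1 := fun h => hx (su_ext h)
  obtain ⟨a, ha, h3⟩ := invol_structure hF hq x.1.1 h1 x.1.2 h2 (su_pres x)
  exact ⟨a, ha, su_ext h3⟩

theorem commute_iff (x y : ↥(SU 3 F q)) : Commute x y ↔ x.1.1 * y.1.1 = y.1.1 * x.1.1 := by
  constructor
  · intro h
    have h1 := congrArg (fun z : ↥(SU 3 F q) => z.1.1) h.eq
    exact h1
  · intro h
    exact su_ext h

/-- all the involutions `tmSU a` are conjugate -/
theorem conj_tm (hF : Fintype.card F = q ^ 2) (a b : Fin 3 → F)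
    (ha : hermForm 3 F q a a = 1) (hb : hermForm 3 F q b b = 1) :
    ∃ g : ↥(SU 3 F q), g * tmSU hF a ha * g⁻¹ = tmSU hF b hb := by
  obtain ⟨φ, hφ, hφ2⟩ := Cfsg.Agent.S0779.exists_frob hF
  obtain ⟨g, hg, hgab⟩ := Cfsg.Agent.Lib.Helper3.exists_unitary_map hF 3 a b ha hb
  set G : Matrix (Fin 3) (Fin 3) F := LinearMap.toMatrix' g.toLinearMap with hGdef
  have hG : ∀ x, G.mulVec x = g x := by
    intro x
    rw [← Matrix.toLin'_apply, hGdef, Matrix.toLin'_toMatrix']
    rfl
  have hGpres : ∀ u v, hermForm 3 F q (G.mulVec u) (G.mulVec v) = hermForm 3 F q u v := by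
    intro u v
    rw [hG, hG, hg]
  have hGT : G.transpose * G.map φ = 1 := by
    apply (Cfsg.Agent.S0837.pres_iff φ G).mp
    intro u v
    rw [← Cfsg.Agent.S0837.herm_eq φ hφ, ← Cfsg.Agent.S0837.herm_eq φ hφ]
    exact hGpres u v
  have hδ : G.det * φ G.det = 1 := by
    have h1 := congrArg Matrix.det hGT
    rw [Matrix.det_mul, Matrix.det_transpose, Matrix.det_one] at h1
    rw [RingHom.map_det, RingHom.mapMatrix_apply]
    exact h1
  have hε : (φ G.det) ^ (q + 1) = 1 := by
    rw [pow_succ, ← hφ, hφ2, hδ]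
  have hdet : (G * Dm q (φ G.det) a).det = 1 := by
    rw [Matrix.det_mul, Dm_det _ a ha, hδ]
  have hGa : G * Tm q a = Tm q b * G := by
    apply mat_ext_vec
    intro x
    rw [← Matrix.mulVec_mulVec, ← Matrix.mulVec_mulVec, Tm_mulVec, Tm_mulVec, Matrix.mulVec_sub,
      Matrix.mulVec_smul, hG a, hgab, hG x]
    have h1 : hermForm 3 F q (g x) b = hermForm 3 F q x a := by
      rw [← hgab, hg]
    rw [h1]
  have hpres : ∀ u v, hermForm 3 F q ((G * Dm q (φ G.det) a).mulVec u)
      ((G * Dm q (φ G.det) a).mulVec v) = hermForm 3 F q u v := by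
    intro u v
    rw [← Matrix.mulVec_mulVec, ← Matrix.mulVec_mulVec, hGpres,
      Dm_pres φ hφ hφ2 _ hε a ha]
  refine ⟨⟨⟨G * Dm q (φ G.det) a, hdet⟩, su_mem _ hpres⟩, ?_⟩
  have h1 : (⟨⟨G * Dm q (φ G.det) a, hdet⟩, su_mem _ hpres⟩ : ↥(SU 3 F q)) * tmSU hF a ha
      = tmSU hF b hb * ⟨⟨G * Dm q (φ G.det) a, hdet⟩, su_mem _ hpres⟩ := by
    apply su_ext
    show G * Dm q (φ G.det) a * Tm q a = Tm q b * (G * Dm q (φ G.det) a)
    rw [mul_assoc, Dm_comm, ← mul_assoc, hGa, mul_assoc]
  rw [h1, mul_inv_cancel_right]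

end su

section count

variable {F : Type*} [Field F] [Fintype F] {q : ℕ}

/-- counting involutions in a set through the norm-one vectors defining them -/
theorem card_unit_eq (hF : Fintype.card F = q ^ 2) (hq : Odd q) (S : Set ↥(SU 3 F q))
    (hS : ∀ x ∈ S, x ≠ 1 ∧ x * x = 1) :
    Nat.card {v : Fin 3 → F // ∃ ha : hermForm 3 F q v v = 1, tmSU hF v ha ∈ S}
      = Nat.card S * (q + 1) := by
  classical
  obtain ⟨φ, hφ, hφ2⟩ := Cfsg.Agent.S0779.exists_frob hF
  have h2 := two_ne_zero_of_odd hF hq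
  have hch : ∀ x : S, ∃ a, ∃ ha : hermForm 3 F q a a = 1, x.1 = tmSU hF a ha :=
    fun x => exists_tm hF hq x.1 (hS x.1 x.2).1 (hS x.1 x.2).2
  choose A hA hAx using hch
  rw [← Cfsg.Agent.S0754.result hF (1 : F) one_ne_zero (one_pow q), ← Nat.card_prod]
  apply Nat.card_congr
  have hmem : ∀ p : S × {ε : F // ε ^ (q + 1) = 1},
      ∃ ha : hermForm 3 F q (p.2.1 • A p.1) (p.2.1 • A p.1) = 1,
        tmSU hF (p.2.1 • A p.1) ha ∈ S := by
    intro p
    have h1 : hermForm 3 F q (p.2.1 • A p.1) (p.2.1 • A p.1) = 1 := by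
      rw [h_smul_left, h_smul_right φ hφ, hA, mul_one, hφ, ← pow_succ', p.2.2]
    refine ⟨h1, ?_⟩
    have h3 : tmSU hF (p.2.1 • A p.1) h1 = p.1.1 := by
      rw [hAx p.1]
      exact su_ext (Tm_smul p.2.1 p.2.2 (A p.1))
    rw [h3]
    exact p.1.2
  refine Equiv.symm (Equiv.ofBijective
    (fun p : S × {ε : F // ε ^ (q + 1) = 1} => ⟨p.2.1 • A p.1, hmem p⟩) ⟨?_, ?_⟩)
  · rintro ⟨x, ε, hε⟩ ⟨x', ε', hε'⟩ h
    have h' : ε • A x = ε' • A x' := congrArg Subtype.val h
    have h1 : x = x' := by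
      apply Subtype.ext
      rw [hAx x, hAx x']
      apply su_ext
      show Tm q (A x) = Tm q (A x')
      rw [← Tm_smul ε hε (A x), ← Tm_smul ε' hε' (A x'), h']
    subst h1
    have h3 := congrArg (fun v => hermForm 3 F q v (A x)) h'
    simp only [h_smul_left, hA x, mul_one] at h3
    subst h3
    rfl
  · rintro ⟨v, hv, hvS⟩
    have h1 : Tm q (A ⟨tmSU hF v hv, hvS⟩) = Tm q v := by
      have h3 := hAx ⟨tmSU hF v hv, hvS⟩
      exact (congrArg (fun y : ↥(SU 3 F q) => y.1.1) h3).symm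
    obtain ⟨ε, hε, hv2⟩ := (Tm_eq_iff φ hφ (A ⟨tmSU hF v hv, hvS⟩) v (hA _) hv h2).mp h1
    exact ⟨(⟨tmSU hF v hv, hvS⟩, ⟨ε, hε⟩), Subtype.ext hv2.symm⟩

/-- the number of involutions -/
theorem card_invol (hF : Fintype.card F = q ^ 2) (hq : Odd q) :
    Nat.card {x : ↥(SU 3 F q) // x ≠ 1 ∧ x * x = 1} = q ^ 2 * (q ^ 2 - q + 1) := by
  have h1 := card_unit_eq hF hq {x : ↥(SU 3 F q) | x ≠ 1 ∧ x * x = 1} (fun x hx => hx)
  have h2 : Nat.card {v : Fin 3 → F // ∃ ha : hermForm 3 F q v v = 1,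
      tmSU hF v ha ∈ {x : ↥(SU 3 F q) | x ≠ 1 ∧ x * x = 1}}
      = Cfsg.Agent.Lib.Helper3.hermCount 3 F q 1 := by
    unfold Cfsg.Agent.Lib.Helper3.hermCount
    apply Nat.card_congr
    apply Equiv.subtypeEquivRight
    intro v
    constructor
    · rintro ⟨ha, _⟩
      exact ha
    · intro ha
      exact ⟨ha, tmSU_ne_one hF hq v ha, tmSU_sq hF v ha⟩
  rw [h2] at h1
  have h3 := (Cfsg.Agent.Lib.Helper3.hermCount_closed hF 3).2
  have hq2 := Cfsg.Agent.Lib.Helper3.two_le_of_card_sq hF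
  have hI : Nat.card {x : ↥(SU 3 F q) // x ≠ 1 ∧ x * x = 1}
      = Nat.card ({x : ↥(SU 3 F q) | x ≠ 1 ∧ x * x = 1} : Set _) := rfl
  rw [hI]
  obtain ⟨m, hm⟩ : ∃ m, q ^ 2 = q + m := Nat.exists_eq_add_of_le (by nlinarith)
  have hm' : q ^ 2 - q + 1 = m + 1 := by omega
  rw [hm']
  have hmZ : (m : ℤ) = (q : ℤ) ^ 2 - q := by
    have := congrArg (Nat.cast : ℕ → ℤ) hm
    push_cast at this
    linarith
  have key : (Nat.card ({x : ↥(SU 3 F q) | x ≠ 1 ∧ x * x = 1} : Set _) : ℤ)
      * ((q : ℤ) * (q + 1)) = ((q : ℤ) ^ 2 * (m + 1)) * ((q : ℤ) * (q + 1)) := by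
    rw [h1] at h3
    push_cast at h3
    rw [hmZ]
    linear_combination h3
  have hqpos : (0 : ℤ) < q := by exact_mod_cast (by omega : 0 < q)
  have hne : ((q : ℤ) * (q + 1)) ≠ 0 := by positivity
  have := mul_right_cancel₀ hne key
  exact_mod_cast this

/-- all involutions are conjugate -/
theorem conj_invol (hF : Fintype.card F = q ^ 2) (hq : Odd q) (t x : ↥(SU 3 F q))
    (ht : t ≠ 1) (ht2 : t * t = 1) (hx : x ≠ 1) (hx2 : x * x = 1) :
    ∃ g : ↥(SU 3 F q), g * t * g⁻¹ = x := by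
  obtain ⟨a, ha, rfl⟩ := exists_tm hF hq t ht ht2
  obtain ⟨b, hb, rfl⟩ := exists_tm hF hq x hx hx2
  exact conj_tm hF a b ha hb

/-- the order of the centralizer of an involution -/
theorem card_centralizer (hF : Fintype.card F = q ^ 2) (hq : Odd q) (t : ↥(SU 3 F q))
    (ht : t ≠ 1) (ht2 : t * t = 1) :
    Nat.card ↥(Subgroup.centralizer ({t} : Set ↥(SU 3 F q))) = q * (q + 1) * (q ^ 2 - 1) := by
  classical
  have horb : MulAction.orbit (ConjAct ↥(SU 3 F q)) t
      = {x : ↥(SU 3 F q) | x ≠ 1 ∧ x * x = 1} := by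
    ext x
    rw [ConjAct.mem_orbit_conjAct]
    constructor
    · intro h
      obtain ⟨c, hc⟩ := isConj_iff.mp h
      have hxt : t = c * x * c⁻¹ := hc.symm
      constructor
      · rintro rfl
        apply ht
        rw [hxt]
        group
      · have h5 : x = c⁻¹ * t * c := by
          rw [hxt]
          group
        rw [h5]
        have : c⁻¹ * t * c * (c⁻¹ * t * c) = c⁻¹ * (t * t) * c := by group
        rw [this, ht2]
        group
    · rintro ⟨hx, hx2⟩
      obtain ⟨g, hg⟩ := conj_invol hF hq x t hx hx2 ht ht2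
      exact isConj_iff.mpr ⟨g, hg⟩
  have h1 : Nat.card (MulAction.orbit (ConjAct ↥(SU 3 F q)) t)
      * Nat.card (MulAction.stabilizer (ConjAct ↥(SU 3 F q)) t)
      = Nat.card ↥(SU 3 F q) := by
    rw [← Nat.card_prod]
    exact Nat.card_congr (MulAction.orbitProdStabilizerEquivGroup (ConjAct ↥(SU 3 F q)) t)
  rw [← Subgroup.nat_card_centralizer_nat_card_stabilizer, horb] at h1
  have h2 : Nat.card ({x : ↥(SU 3 F q) | x ≠ 1 ∧ x * x = 1} : Set _)
      = q ^ 2 * (q ^ 2 - q + 1) := card_invol hF hq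
  rw [h2] at h1
  generalize Nat.card ↥(Subgroup.centralizer ({t} : Set ↥(SU 3 F q))) = C at h1 ⊢
  have h3 := Cfsg.Agent.S0278.result hF 3 (by norm_num)
  rw [← h1] at h3
  have hq2 := Cfsg.Agent.Lib.Helper3.two_le_of_card_sq hF
  simp only [Finset.prod_range_succ, Finset.prod_range_zero, one_mul] at h3
  norm_num at h3
  obtain ⟨m, hm⟩ : ∃ m, q ^ 2 = q + m := Nat.exists_eq_add_of_le (by nlinarith)
  have hm' : q ^ 2 - q + 1 = m + 1 := by omega
  obtain ⟨r, hr⟩ : ∃ r, q ^ 2 = r + 1 := ⟨q ^ 2 - 1, by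
    have : 1 ≤ q ^ 2 := by nlinarith
    omega⟩
  have hr' : q ^ 2 - 1 = r := by omega
  rw [hm', hr'] at h3
  rw [hr']
  have hmZ : (m : ℤ) = (q : ℤ) ^ 2 - q := by
    have := congrArg (Nat.cast : ℕ → ℤ) hm
    push_cast at this
    linarith
  have hrZ : (r : ℤ) = (q : ℤ) ^ 2 - 1 := by
    have := congrArg (Nat.cast : ℕ → ℤ) hr
    push_cast at this
    linarith
  have h4 := congrArg (Nat.cast : ℕ → ℤ) h3
  push_cast at h4
  rw [hmZ, hrZ] at h4
  have hqpos : (0 : ℤ) < q := by exact_mod_cast (by omega : 0 < q)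
  have hne : ((q : ℤ) + 1) * ((q : ℤ) ^ 2 * ((q : ℤ) ^ 2 - q + 1)) ≠ 0 := by
    have : (0 : ℤ) < (q : ℤ) ^ 2 - q + 1 := by nlinarith
    positivity
  have key : ((q : ℤ) + 1) * ((q : ℤ) ^ 2 * ((q : ℤ) ^ 2 - q + 1))
      * (C : ℤ)
      = ((q : ℤ) + 1) * ((q : ℤ) ^ 2 * ((q : ℤ) ^ 2 - q + 1)) * (q * (q + 1) * ((q : ℤ) ^ 2 - 1)) := by
    linear_combination h4
  have h5 := mul_left_cancel₀ hne key
  rw [← hrZ] at h5
  exact_mod_cast h5

/-- two distinct commuting involutions have exactly one further involution commuting with both -/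
theorem card_third (hF : Fintype.card F = q ^ 2) (hq : Odd q) (t x : ↥(SU 3 F q))
    (ht : t ≠ 1) (ht2 : t * t = 1) (hx : x ≠ 1) (hx2 : x * x = 1) (hxt : x ≠ t)
    (hc : Commute t x) :
    Nat.card {y : ↥(SU 3 F q) // y ≠ 1 ∧ y * y = 1 ∧ y ≠ t ∧ y ≠ x ∧ Commute t y ∧ Commute x y}
      = 1 := by
  obtain ⟨φ, hφ, hφ2⟩ := Cfsg.Agent.S0779.exists_frob hF
  have h2 := two_ne_zero_of_odd hF hq
  obtain ⟨a, ha, rfl⟩ := exists_tm hF hq t ht ht2
  obtain ⟨b, hb, rfl⟩ := exists_tm hF hq x hx hx2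
  have hab : hermForm 3 F q a b = 0 := by
    rcases Tm_comm_cases φ hφ hφ2 h2 a b ha hb ((commute_iff _ _).mp hc) with h | h
    · exact h
    · exact absurd ((tmSU_eq_iff hF b a hb ha).mpr h.symm) hxt
  have huniq : ∀ y : ↥(SU 3 F q), y ≠ 1 → y * y = 1 → y ≠ tmSU hF a ha → y ≠ tmSU hF b hb →
      Commute (tmSU hF a ha) y → Commute (tmSU hF b hb) y → y = tmSU hF a ha * tmSU hF b hb := by
    intro y hy hy2 hya hyb hcya hcyb
    obtain ⟨c, hcc, rfl⟩ := exists_tm hF hq y hy hy2
    have hac : hermForm 3 F q a c = 0 := by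
      rcases Tm_comm_cases φ hφ hφ2 h2 a c ha hcc ((commute_iff _ _).mp hcya) with h | h
      · exact h
      · exact absurd ((tmSU_eq_iff hF c a hcc ha).mpr h.symm) hya
    have hbc : hermForm 3 F q b c = 0 := by
      rcases Tm_comm_cases φ hφ hφ2 h2 b c hb hcc ((commute_iff _ _).mp hcyb) with h | h
      · exact h
      · exact absurd ((tmSU_eq_iff hF c b hcc hb).mpr h.symm) hyb
    apply su_ext
    exact (Tm_mul_of_orth φ hφ hφ2 a b c ha hb hcc hab hac hbc).symm
  rw [Nat.card_eq_one_iff_unique]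
  constructor
  · refine ⟨fun y y' => Subtype.ext ?_⟩
    rw [huniq y.1 y.2.1 y.2.2.1 y.2.2.2.1 y.2.2.2.2.1 y.2.2.2.2.2.1 y.2.2.2.2.2.2,
      huniq y'.1 y'.2.1 y'.2.2.1 y'.2.2.2.1 y'.2.2.2.2.1 y'.2.2.2.2.2.1 y'.2.2.2.2.2.2]
  · refine ⟨⟨tmSU hF a ha * tmSU hF b hb, ?_, ?_, ?_, ?_, ?_, ?_⟩⟩
    · intro h
      apply hxt
      have : tmSU hF b hb = (tmSU hF a ha)⁻¹ := (inv_eq_of_mul_eq_one_right h).symm
      rw [this]
      exact inv_eq_of_mul_eq_one_right ht2
    · have : tmSU hF a ha * tmSU hF b hb * (tmSU hF a ha * tmSU hF b hb)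
          = tmSU hF a ha * tmSU hF a ha * (tmSU hF b hb * tmSU hF b hb) := by
        rw [mul_assoc, ← mul_assoc (tmSU hF b hb), ← hc.eq]
        simp only [mul_assoc]
      rw [this, ht2, hx2, one_mul]
    · intro h
      exact hx (mul_eq_left.mp h)
    · intro h
      exact ht (mul_eq_right.mp h)
    · exact (Commute.refl _).mul_right hc
    · exact hc.symm.mul_right (Commute.refl _)

end count

end Cfsg.Agent.Lib.Helper7.SU3Invol
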