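import Mathlib
import Cfsg.Prelude
import Cfsg.Agent.S0828
import Cfsg.Agent.S0829
import Cfsg.Agent.Lib.Helper3.HermCount
import Cfsg.Agent.Lib.Helper7.SU3Invol

set_option autoImplicit false
set_option linter.unusedVariables false
set_option linter.unusedSectionVars false
set_option linter.style.haveILetI false
set_option linter.unnecessarySeqFocus false

/-!
Counting totally isotropic frames for the standard hermitian form `∑ x_i y_i^q` over a field with
`q²` elements: the number of isotropic vectors orthogonal to a totally isotropic family, the number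
of ways to extend a frame, and the resulting closed formula.
-/

namespace Cfsg.Agent.Lib.Helper7.TICount

open Cfsg
open Cfsg.Agent.Lib.Helper7.SU3Invol (h_add_left h_smul_left h_sub_left h_add_right h_smul_right
  h_sub_right h_symm h_single_left h_single_right)
open Cfsg.Agent.Lib.Helper3 (hermCount hermCount_closed)
open Cfsg.Agent.S0828 (card_fiber)
open Cfsg.Agent.S0829 (card_fiber_sum herm_self_pow two_le_q phi_ne_id)

section fld

variable {F : Type*} [Field F] (φ : F →+* F) (hφ2 : ∀ a : F, φ (φ a) = a)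
  (hφne : φ ≠ RingHom.id F)

include hφ2 hφne in
theorem trace_surj (μ : F) (hμ : φ μ = μ) : ∃ t : F, t + φ t = μ := by
  obtain ⟨x, hx⟩ : ∃ x : F, x + φ x ≠ 0 := by
    by_contra hcon
    push Not at hcon
    apply hφne
    have h1 := hcon 1
    rw [map_one] at h1
    ext y
    have h2 := hcon y
    rw [RingHom.id_apply]
    linear_combination h2 - y * h1
  refine ⟨μ * x / (x + φ x), ?_⟩
  have hx' : φ x + x ≠ 0 := by rwa [add_comm]
  rw [map_div₀, map_mul, map_add, hφ2, hμ]
  field_simp
  ring

include hφ2 hφne in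
/-- A field with an involutory automorphism is a plane over the fixed elements. -/
theorem card_fix_sq [Finite F] : Nat.card F = Nat.card {x : F // φ x = x} ^ 2 := by
  obtain ⟨θ, hθ⟩ : ∃ x : F, φ x ≠ x := by
    by_contra hcon
    push Not at hcon
    exact hφne (RingHom.ext hcon)
  have hδ : θ - φ θ ≠ 0 := sub_ne_zero.mpr (Ne.symm hθ)
  have hδ' : φ θ - θ ≠ 0 := sub_ne_zero.mpr hθ
  have hb : ∀ x : F, φ ((x - φ x) / (θ - φ θ)) = (x - φ x) / (θ - φ θ) := by
    intro x
    rw [map_div₀, map_sub, map_sub, hφ2, hφ2, div_eq_div_iff hδ' hδ]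
    ring
  have ha : ∀ x : F, φ (x - (x - φ x) / (θ - φ θ) * θ) = x - (x - φ x) / (θ - φ θ) * θ := by
    intro x
    rw [map_sub, map_mul, hb]
    have h1 : (x - φ x) / (θ - φ θ) * (θ - φ θ) = x - φ x := div_mul_cancel₀ _ hδ
    linear_combination h1
  let e : F ≃ {x : F // φ x = x} × {x : F // φ x = x} :=
    { toFun := fun x => (⟨x - (x - φ x) / (θ - φ θ) * θ, ha x⟩, ⟨(x - φ x) / (θ - φ θ), hb x⟩)
      invFun := fun ab => ab.1.1 + ab.2.1 * θ
      left_inv := fun x => by
        show x - (x - φ x) / (θ - φ θ) * θ + (x - φ x) / (θ - φ θ) * θ = x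
        rw [sub_add_cancel]
      right_inv := fun ab => by
        obtain ⟨⟨a, ha'⟩, ⟨b, hb'⟩⟩ := ab
        have h2 : (a + b * θ - φ (a + b * θ)) / (θ - φ θ) = b := by
          rw [map_add, map_mul, ha', hb', div_eq_iff hδ]
          ring
        apply Prod.ext
        · apply Subtype.ext
          show a + b * θ - (a + b * θ - φ (a + b * θ)) / (θ - φ θ) * θ = a
          rw [h2]
          ring
        · apply Subtype.ext
          exact h2 }
  rw [Nat.card_congr e, Nat.card_prod, sq]

include hφ2 hφne in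
theorem card_fix [Fintype F] {q : ℕ} (hF : Fintype.card F = q ^ 2) :
    Nat.card {x : F // φ x = x} = q := by
  have h1 := card_fix_sq φ hφ2 hφne
  rw [Nat.card_eq_fintype_card, hF] at h1
  exact (Nat.pow_left_injective (two_ne_zero) h1).symm

end fld

section gen

theorem card_split {α β : Type*} [Finite α] [Fintype β] (R : α → Prop) (g : α → β) :
    Nat.card {v // R v} = ∑ c, Nat.card {v // R v ∧ g v = c} := by
  rw [card_fiber_sum (fun v : {v // R v} => g v.1)]
  exact Finset.sum_congr rfl (fun c _ =>
    Nat.card_congr (Equiv.subtypeSubtypeEquivSubtypeInter R (fun v => g v = c)))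

theorem card_fib {α β : Type*} [Finite α] [Finite β] (R : α → Prop) (g : α → β) (Q : β → Prop)
    (hQ : ∀ v, R v → Q (g v)) (m : ℕ) (hm : ∀ μ, Q μ → Nat.card {v // R v ∧ g v = μ} = m) :
    Nat.card {v // R v} = Nat.card {μ // Q μ} * m := by
  apply card_fiber (fun v : {v // R v} => (⟨g v.1, hQ v.1 v.2⟩ : {μ // Q μ})) m
  intro μ
  rw [← hm μ.1 μ.2]
  exact Nat.card_congr ((Equiv.subtypeEquivRight (fun x => by
    rw [Subtype.ext_iff])).trans (Equiv.subtypeSubtypeEquivSubtypeInter R (fun v => g v = μ.1)))

end gen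

section form

variable {F : Type*} [Field F] [Fintype F] {q : ℕ} {n : ℕ} (φ : F →+* F)
  (hφq : ∀ a : F, φ a = a ^ q) (hφ2 : ∀ a : F, φ (φ a) = a) (hφne : φ ≠ RingHom.id F)
  (hF : Fintype.card F = q ^ 2)

include hφq hφ2 hφne hF in
theorem claim2 (P : (Fin n → F) → Prop) (w : Fin n → F) (hw : hermForm n F q w w = 0)
    (hP : ∀ (v : Fin n → F) (t : F), P v → P (v + t • w)) (c : F) (hc : c ≠ 0) :
    Nat.card {v : Fin n → F // P v ∧ hermForm n F q v w = c}
      = q * Nat.card {v : Fin n → F //
          (P v ∧ hermForm n F q v v = 0) ∧ hermForm n F q v w = c} := by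
  have key := card_fib (fun v : Fin n → F => P v ∧ hermForm n F q v w = c)
    (fun v => hermForm n F q v v) (fun μ => φ μ = μ)
    (by
      intro v _
      rw [hφq, herm_self_pow φ hφq hφ2])
    (Nat.card {v : Fin n → F // (P v ∧ hermForm n F q v v = 0) ∧ hermForm n F q v w = c}) ?_
  · rw [card_fix φ hφ2 hφne hF] at key
    exact key
  · intro μ hμ
    obtain ⟨s, hs⟩ := trace_surj φ hφ2 hφne (-μ) (by rw [map_neg, hμ])
    have hφc : φ c ≠ 0 := by rwa [Ne, map_eq_zero]
    set t : F := s / φ c with ht
    have htt : φ t * c + t * φ c = -μ := by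
      rw [ht, map_div₀, hφ2, div_mul_cancel₀ _ hc, div_mul_cancel₀ _ hφc]
      linear_combination hs
    refine Nat.card_congr (Equiv.subtypeEquiv (Equiv.addRight (t • w)) (fun v => ?_))
    have e1 : hermForm n F q (v + t • w) w = hermForm n F q v w := by
      rw [h_add_left, h_smul_left, hw, mul_zero, add_zero]
    have e2 : hermForm n F q (v + t • w) (v + t • w)
        = hermForm n F q v v + φ t * hermForm n F q v w + t * φ (hermForm n F q v w) := by
      rw [h_add_left, h_smul_left, h_add_right φ hφq, h_add_right φ hφq, h_smul_right φ hφq,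
        h_smul_right φ hφq, hw, h_symm φ hφq hφ2 v w]
      ring
    change _ ↔ (P (v + t • w) ∧ hermForm n F q (v + t • w) (v + t • w) = 0) ∧
      hermForm n F q (v + t • w) w = c
    rw [e1, e2]
    constructor
    · rintro ⟨⟨h1, h2⟩, h3⟩
      refine ⟨⟨hP v t h1, ?_⟩, h2⟩
      rw [h2, h3]
      linear_combination htt
    · rintro ⟨⟨h1, h2⟩, h3⟩
      refine ⟨⟨?_, h3⟩, ?_⟩
      · have := hP _ (-t) h1
        rwa [neg_smul, add_neg_cancel_right] at this
      · rw [h3] at h2
        linear_combination h2 - htt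

include hφq hφ2 hφne hF in
theorem step (P : (Fin n → F) → Prop) (w : Fin n → F) (hw : hermForm n F q w w = 0)
    (hP : ∀ (v : Fin n → F) (t : F), P v → P (v + t • w)) :
    (q : ℤ) * (Nat.card {v : Fin n → F // P v ∧ hermForm n F q v v = 0} : ℤ)
        - (Nat.card {v : Fin n → F // P v} : ℤ)
      = (q : ℤ) * (Nat.card {v : Fin n → F //
            (P v ∧ hermForm n F q v w = 0) ∧ hermForm n F q v v = 0} : ℤ)
        - (Nat.card {v : Fin n → F // P v ∧ hermForm n F q v w = 0} : ℤ) := by
  classical
  have s1 : Nat.card {v : Fin n → F // P v ∧ hermForm n F q v v = 0}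
      = ∑ c : F, Nat.card {v : Fin n → F //
          (P v ∧ hermForm n F q v v = 0) ∧ hermForm n F q v w = c} :=
    card_split (fun v => P v ∧ hermForm n F q v v = 0) (fun v => hermForm n F q v w)
  have s2 : Nat.card {v : Fin n → F // P v}
      = ∑ c : F, Nat.card {v : Fin n → F // P v ∧ hermForm n F q v w = c} :=
    card_split P (fun v => hermForm n F q v w)
  have e : Nat.card {v : Fin n → F // (P v ∧ hermForm n F q v v = 0) ∧ hermForm n F q v w = 0}
      = Nat.card {v : Fin n → F // (P v ∧ hermForm n F q v w = 0) ∧ hermForm n F q v v = 0} :=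
    Nat.card_congr (Equiv.subtypeEquivRight (fun v => and_right_comm))
  rw [s1, s2, ← e]
  push_cast
  rw [Finset.mul_sum, ← Finset.sum_sub_distrib]
  rw [Finset.sum_eq_single (0 : F)]
  · intro c _ hc
    rw [claim2 φ hφq hφ2 hφne hF P w hw hP c hc]
    push_cast
    ring
  · intro h
    exact absurd (Finset.mem_univ _) h

include hφq hφ2 hφne hF in
theorem invariant (k : ℕ) (a : Fin k → Fin n → F)
    (hti : ∀ j l, hermForm n F q (a j) (a l) = 0) :
    (q : ℤ) * (Nat.card {v : Fin n → F //
          (∀ j, hermForm n F q v (a j) = 0) ∧ hermForm n F q v v = 0} : ℤ)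
        - (Nat.card {v : Fin n → F // ∀ j, hermForm n F q v (a j) = 0} : ℤ)
      = (q : ℤ) * (hermCount n F q 0 : ℤ) - ((q : ℤ) ^ 2) ^ n := by
  have key : ∀ i, i ≤ k →
      (q : ℤ) * (Nat.card {v : Fin n → F //
          (∀ j : Fin k, j.val < i → hermForm n F q v (a j) = 0) ∧ hermForm n F q v v = 0} : ℤ)
        - (Nat.card {v : Fin n → F // ∀ j : Fin k, j.val < i → hermForm n F q v (a j) = 0} : ℤ)
      = (q : ℤ) * (hermCount n F q 0 : ℤ) - ((q : ℤ) ^ 2) ^ n := by
    intro i
    induction i with
    | zero =>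
      intro _
      have e1 : Nat.card {v : Fin n → F //
          (∀ j : Fin k, j.val < 0 → hermForm n F q v (a j) = 0) ∧ hermForm n F q v v = 0}
          = hermCount n F q 0 :=
        Nat.card_congr (Equiv.subtypeEquivRight (fun v => by simp))
      have e2 : Nat.card {v : Fin n → F //
          ∀ j : Fin k, j.val < 0 → hermForm n F q v (a j) = 0} = (q ^ 2) ^ n := by
        rw [Nat.card_congr (Equiv.subtypeUnivEquiv (fun v => by simp)), Nat.card_eq_fintype_card,
          Fintype.card_fun, hF, Fintype.card_fin]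
      rw [e1, e2]
      push_cast
      ring
    | succ i ih =>
      intro hi
      have hi' : i < k := hi
      rw [← ih (by omega)]
      have hs := step φ hφq hφ2 hφne hF
        (fun v => ∀ j : Fin k, j.val < i → hermForm n F q v (a j) = 0) (a ⟨i, hi'⟩) (hti _ _) (by
          intro v t hv j hj
          rw [h_add_left, h_smul_left, hv j hj, hti, mul_zero, add_zero])
      rw [hs]
      have hiff : ∀ v : Fin n → F, (∀ j : Fin k, j.val < i + 1 → hermForm n F q v (a j) = 0) ↔
          ((∀ j : Fin k, j.val < i → hermForm n F q v (a j) = 0) ∧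
            hermForm n F q v (a ⟨i, hi'⟩) = 0) := by
        intro v
        constructor
        · intro h
          exact ⟨fun j hj => h j (by omega), h ⟨i, hi'⟩ (by simp)⟩
        · rintro ⟨h1, h2⟩ j hj
          by_cases hji : j.val < i
          · exact h1 j hji
          · have hje : j = ⟨i, hi'⟩ := Fin.ext (by simp only; omega)
            rw [hje]
            exact h2
      have e1 : Nat.card {v : Fin n → F //
          (∀ j : Fin k, j.val < i + 1 → hermForm n F q v (a j) = 0) ∧ hermForm n F q v v = 0}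
          = Nat.card {v : Fin n → F //
            ((∀ j : Fin k, j.val < i → hermForm n F q v (a j) = 0) ∧
              hermForm n F q v (a ⟨i, hi'⟩) = 0) ∧ hermForm n F q v v = 0} :=
        Nat.card_congr (Equiv.subtypeEquivRight (fun v => by rw [hiff]))
      have e2 : Nat.card {v : Fin n → F //
          ∀ j : Fin k, j.val < i + 1 → hermForm n F q v (a j) = 0}
          = Nat.card {v : Fin n → F //
            (∀ j : Fin k, j.val < i → hermForm n F q v (a j) = 0) ∧
              hermForm n F q v (a ⟨i, hi'⟩) = 0} :=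
        Nat.card_congr (Equiv.subtypeEquivRight (fun v => by rw [hiff]))
      rw [e1, e2]
  have e1 : Nat.card {v : Fin n → F //
      (∀ j, hermForm n F q v (a j) = 0) ∧ hermForm n F q v v = 0}
      = Nat.card {v : Fin n → F //
        (∀ j : Fin k, j.val < k → hermForm n F q v (a j) = 0) ∧ hermForm n F q v v = 0} :=
    Nat.card_congr (Equiv.subtypeEquivRight (fun v => by
      constructor
      · rintro ⟨h1, h2⟩
        exact ⟨fun j _ => h1 j, h2⟩
      · rintro ⟨h1, h2⟩
        exact ⟨fun j => h1 j j.2, h2⟩))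
  have e2 : Nat.card {v : Fin n → F // ∀ j, hermForm n F q v (a j) = 0}
      = Nat.card {v : Fin n → F // ∀ j : Fin k, j.val < k → hermForm n F q v (a j) = 0} :=
    Nat.card_congr (Equiv.subtypeEquivRight (fun v => by
      constructor
      · intro h1 j _
        exact h1 j
      · intro h1 j
        exact h1 j j.2))
  rw [e1, e2]
  exact key k le_rfl

/-- the linear functional `v ↦ h(v, u)` -/
def hl (q : ℕ) (u : Fin n → F) : (Fin n → F) →ₗ[F] F where
  toFun v := hermForm n F q v u
  map_add' x y := h_add_left x y u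
  map_smul' c x := by
    rw [h_smul_left, RingHom.id_apply, smul_eq_mul]

include hφq hφ2 hF in
theorem card_perp (k : ℕ) (a : Fin k → Fin n → F) (hli : LinearIndependent F a) :
    Nat.card {v : Fin n → F // ∀ j, hermForm n F q v (a j) = 0} * (q ^ 2) ^ k = (q ^ 2) ^ n := by
  classical
  have hq2 := two_le_q hF
  set L : (Fin n → F) →ₗ[F] (Fin k → F) := LinearMap.pi (fun j => hl q (a j)) with hL
  have hLv : ∀ v j, L v j = hermForm n F q v (a j) := fun v j => rfl
  have hsurj : Function.Surjective L := by
    by_contra hns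
    have hlt : LinearMap.range L < ⊤ :=
      lt_top_iff_ne_top.mpr (fun h => hns (LinearMap.range_eq_top.mp h))
    obtain ⟨f, hf0, hf⟩ := Submodule.exists_le_ker_of_lt_top _ hlt
    have hfL : ∀ v, f (L v) = 0 := fun v => hf (LinearMap.mem_range_self L v)
    have hexp : ∀ x : Fin k → F, f x = ∑ j, x j * f (fun l => if j = l then 1 else 0) := by
      intro x
      rw [LinearMap.pi_apply_eq_sum_univ f x]
      rfl
    have hu : ∑ j, φ (f (fun l => if j = l then 1 else 0)) • a j = 0 := by
      funext l
      have h1 := hfL (Pi.single l 1)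
      rw [hexp] at h1
      simp only [hLv, h_single_left] at h1
      rw [Finset.sum_apply]
      simp only [Pi.smul_apply, smul_eq_mul, Pi.zero_apply]
      have h2 := congrArg φ h1
      rw [map_sum, map_zero] at h2
      refine (Finset.sum_congr rfl (fun j _ => ?_)).trans h2
      rw [map_mul, ← hφq, hφ2, mul_comm]
    have hc0 : ∀ j, f (fun l => if j = l then 1 else 0) = 0 := by
      intro j
      have := Fintype.linearIndependent_iff.mp hli
        (fun j => φ (f (fun l => if j = l then 1 else 0))) hu j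
      rwa [map_eq_zero] at this
    apply hf0
    apply LinearMap.ext
    intro x
    rw [hexp]
    simp [hc0]
  have h1 := LinearMap.finrank_range_add_finrank_ker L
  rw [LinearMap.range_eq_top.mpr hsurj, finrank_top, Module.finrank_fin_fun,
    Module.finrank_fin_fun] at h1
  have e : Nat.card {v : Fin n → F // ∀ j, hermForm n F q v (a j) = 0}
      = Nat.card (LinearMap.ker L) :=
    Nat.card_congr (Equiv.subtypeEquivRight (fun v => by
      rw [LinearMap.mem_ker]
      constructor
      · intro h
        funext j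
        exact h j
      · intro h j
        exact congrFun h j))
  rw [e, Module.natCard_eq_pow_finrank (K := F) (V := LinearMap.ker L), Nat.card_eq_fintype_card,
    hF, ← pow_add, add_comm, h1]

include hφq hφ2 in
theorem span_ti {ι : Type*} (a : ι → Fin n → F) (hti : ∀ j l, hermForm n F q (a j) (a l) = 0) :
    ∀ x ∈ Submodule.span F (Set.range a), ∀ y ∈ Submodule.span F (Set.range a),
      hermForm n F q x y = 0 := by
  have h1 : ∀ x ∈ Submodule.span F (Set.range a), ∀ l, hermForm n F q x (a l) = 0 := by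
    intro x hx l
    induction hx using Submodule.span_induction with
    | mem x hx =>
      obtain ⟨j, rfl⟩ := hx
      exact hti j l
    | zero => simp [hermForm]
    | add x z _ _ hx hz => rw [h_add_left, hx, hz, add_zero]
    | smul c x _ hx => rw [h_smul_left, hx, mul_zero]
  intro x hx y hy
  have h2 : ∀ l, hermForm n F q (a l) x = 0 := by
    intro l
    rw [h_symm φ hφq hφ2 x (a l), h1 x hx l, map_zero]
  have h3 : hermForm n F q y x = 0 := by
    induction hy using Submodule.span_induction with
    | mem y hy =>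
      obtain ⟨j, rfl⟩ := hy
      exact h2 j
    | zero => simp [hermForm]
    | add y z _ _ hy hz => rw [h_add_left, hy, hz, add_zero]
    | smul c y _ hy => rw [h_smul_left, hy, mul_zero]
  rw [h_symm φ hφq hφ2 y x, h3, map_zero]

include hφq hφ2 hφne hF in
theorem card_ext (k r : ℕ) (hn : n = 2 * k + 2 + r) (a : Fin k → Fin n → F)
    (hli : LinearIndependent F a) (hti : ∀ j l, hermForm n F q (a j) (a l) = 0) :
    Nat.card {v : Fin n → F // ((∀ j, hermForm n F q v (a j) = 0) ∧ hermForm n F q v v = 0) ∧
        v ∉ Submodule.span F (Set.range a)}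
      = q ^ (2 * k) * ((if Even r then q ^ (r + 1) + 1 else q ^ (r + 1) - 1) *
          (if Even (r + 1) then q ^ (r + 1 + 1) + 1 else q ^ (r + 1 + 1) - 1)) := by
  classical
  have hq2 := two_le_q hF
  have hq0 : (q : ℤ) ≠ 0 := by
    have : q ≠ 0 := by omega
    exact_mod_cast this
  have hsp := span_ti φ hφq hφ2 a hti
  have hSC : ((Submodule.span F (Set.range a) : Submodule F (Fin n → F)) : Set (Fin n → F))
      ⊆ {v : Fin n → F | (∀ j, hermForm n F q v (a j) = 0) ∧ hermForm n F q v v = 0} := by
    intro v hv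
    exact ⟨fun j => hsp v hv (a j) (Submodule.subset_span (Set.mem_range_self j)), hsp v hv v hv⟩
  have e1 : Nat.card {v : Fin n → F //
      ((∀ j, hermForm n F q v (a j) = 0) ∧ hermForm n F q v v = 0) ∧
        v ∉ Submodule.span F (Set.range a)}
      = ({v : Fin n → F | (∀ j, hermForm n F q v (a j) = 0) ∧ hermForm n F q v v = 0} \
        ((Submodule.span F (Set.range a) : Submodule F (Fin n → F)) : Set (Fin n → F))).ncard :=
    Nat.card_coe_set_eq _
  have e2 : Nat.card {v : Fin n → F //
      (∀ j, hermForm n F q v (a j) = 0) ∧ hermForm n F q v v = 0}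
      = ({v : Fin n → F | (∀ j, hermForm n F q v (a j) = 0) ∧
        hermForm n F q v v = 0}).ncard := Nat.card_coe_set_eq _
  have e3 : Nat.card (Submodule.span F (Set.range a) : Submodule F (Fin n → F))
      = ((Submodule.span F (Set.range a) : Submodule F (Fin n → F)) : Set (Fin n → F)).ncard :=
    Nat.card_coe_set_eq _
  have e4 : Nat.card (Submodule.span F (Set.range a) : Submodule F (Fin n → F)) = (q ^ 2) ^ k := by
    rw [Module.natCard_eq_pow_finrank (K := F)
      (V := (Submodule.span F (Set.range a) : Submodule F (Fin n → F))),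
      finrank_span_eq_card hli, Fintype.card_fin, Nat.card_eq_fintype_card, hF]
  have hA := Set.ncard_sdiff_add_ncard_of_subset hSC
  rw [← e1, ← e2, ← e3, e4] at hA
  have hinv := invariant φ hφq hφ2 hφne hF k a hti
  have hK := card_perp φ hφq hφ2 hF k a hli
  have hcl := (hermCount_closed hF n).1
  subst hn
  have hK' : Nat.card {v : Fin (2 * k + 2 + r) → F //
      ∀ j, hermForm (2 * k + 2 + r) F q v (a j) = 0} = (q ^ 2) ^ (k + 2 + r) := by
    have h5 : (q ^ 2) ^ (2 * k + 2 + r) = (q ^ 2) ^ (k + 2 + r) * (q ^ 2) ^ k := by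
      rw [← pow_add]
      congr 1
      omega
    rw [h5] at hK
    exact Nat.eq_of_mul_eq_mul_right (by positivity) hK
  rw [hK'] at hinv
  rw [← hA] at hinv
  have hsign : (-1 : ℤ) ^ (2 * k + 2 + r) = (-1) ^ r := by
    rw [show 2 * k + 2 + r = 2 * (k + 1) + r by ring, pow_add, pow_mul]
    norm_num
  rw [hsign] at hcl
  set c := Nat.card {v : Fin (2 * k + 2 + r) → F //
      ((∀ j, hermForm (2 * k + 2 + r) F q v (a j) = 0) ∧
        hermForm (2 * k + 2 + r) F q v v = 0) ∧ v ∉ Submodule.span F (Set.range a)} with hc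
  push_cast at hinv
  have hpos : ∀ m : ℕ, 1 ≤ q ^ m := fun m => Nat.one_le_pow _ _ (by omega)
  rcases Nat.even_or_odd r with hr | hr
  · have hr1 : ¬ Even (r + 1) := by
      rw [Nat.even_add_one]
      exact not_not.mpr hr
    rw [if_pos hr, if_neg hr1]
    rw [hr.neg_one_pow] at hcl
    have hc' : (q : ℤ) * (c : ℤ)
        = (q : ℤ) * ((q ^ (2 * k) * ((q ^ (r + 1) + 1) * (q ^ (r + 1 + 1) - 1)) : ℕ) : ℤ) := by
      push_cast [Nat.cast_sub (hpos (r + 1 + 1))]
      linear_combination hinv + hcl
    exact_mod_cast mul_left_cancel₀ hq0 hc'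
  · have hr0 : ¬ Even r := Nat.not_even_iff_odd.mpr hr
    have hr1 : Even (r + 1) := by
      rw [Nat.even_add_one]
      exact hr0
    rw [if_neg hr0, if_pos hr1]
    rw [hr.neg_one_pow] at hcl
    have hc' : (q : ℤ) * (c : ℤ)
        = (q : ℤ) * ((q ^ (2 * k) * ((q ^ (r + 1) - 1) * (q ^ (r + 1 + 1) + 1)) : ℕ) : ℤ) := by
      push_cast [Nat.cast_sub (hpos (r + 1))]
      linear_combination hinv + hcl
    exact_mod_cast mul_left_cancel₀ hq0 hc'

/-- totally isotropic frames: linearly independent families of pairwise orthogonal isotropic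
vectors -/
abbrev TIFrame (n : ℕ) (F : Type*) [Field F] (q k : ℕ) : Type _ :=
  {a : Fin k → Fin n → F // LinearIndependent F a ∧ ∀ j l, hermForm n F q (a j) (a l) = 0}

omit [Fintype F] in
theorem card_frames_zero : Nat.card (TIFrame n F q 0) = 1 := by
  rw [Nat.card_eq_one_iff_unique]
  exact ⟨⟨fun a b => Subtype.ext (funext fun i => i.elim0)⟩,
    ⟨⟨fun i => i.elim0, linearIndependent_empty_type, fun j => j.elim0⟩⟩⟩

include hφq hφ2 hφne hF in
theorem card_frames_succ (k r : ℕ) (hn : n = 2 * k + 2 + r) :
    Nat.card (TIFrame n F q (k + 1)) = Nat.card (TIFrame n F q k) *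
      (q ^ (2 * k) * ((if Even r then q ^ (r + 1) + 1 else q ^ (r + 1) - 1) *
          (if Even (r + 1) then q ^ (r + 1 + 1) + 1 else q ^ (r + 1 + 1) - 1))) := by
  classical
  apply card_fiber (fun b : TIFrame n F q (k + 1) =>
    (⟨Fin.init b.1, b.2.1.comp Fin.castSucc (Fin.castSucc_injective k),
      fun j l => b.2.2 _ _⟩ : TIFrame n F q k))
  intro a
  rw [← card_ext φ hφq hφ2 hφne hF k r hn a.1 a.2.1 a.2.2]
  refine Nat.card_congr
    { toFun := fun b => ⟨b.1.1 (Fin.last k), ⟨?_, ?_⟩, ?_⟩
      invFun := fun v => ⟨⟨Fin.snoc a.1 v.1, linearIndependent_finSnoc.mpr ⟨a.2.1, v.2.2⟩, ?_⟩, ?_⟩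
      left_inv := ?_
      right_inv := ?_ }
  · intro j
    have hb : Fin.init b.1.1 = a.1 := congrArg Subtype.val b.2
    rw [← hb]
    exact b.1.2.2 _ _
  · exact b.1.2.2 _ _
  · have hb : Fin.init b.1.1 = a.1 := congrArg Subtype.val b.2
    have h1 : LinearIndependent F
        (Fin.snoc (Fin.init b.1.1) (b.1.1 (Fin.last k)) : Fin (k + 1) → Fin n → F) := by
      rw [Fin.snoc_init_self]
      exact b.1.2.1
    have h2 := (linearIndependent_finSnoc.mp h1).2
    rw [hb] at h2
    exact h2
  · intro j l
    induction j using Fin.lastCases with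
    | last =>
      induction l using Fin.lastCases with
      | last =>
        rw [Fin.snoc_last]
        exact v.2.1.2
      | cast l =>
        rw [Fin.snoc_last, Fin.snoc_castSucc]
        exact v.2.1.1 l
    | cast j =>
      induction l using Fin.lastCases with
      | last =>
        rw [Fin.snoc_last, Fin.snoc_castSucc, h_symm φ hφq hφ2 v.1 (a.1 j), v.2.1.1 j, map_zero]
      | cast l =>
        rw [Fin.snoc_castSucc, Fin.snoc_castSucc]
        exact a.2.2 j l
  · apply Subtype.ext
    change Fin.init (Fin.snoc a.1 v.1 : Fin (k + 1) → Fin n → F) = a.1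
    exact Fin.init_snoc _ _
  · intro b
    have hb : Fin.init b.1.1 = a.1 := congrArg Subtype.val b.2
    apply Subtype.ext
    apply Subtype.ext
    change Fin.snoc a.1 (b.1.1 (Fin.last k)) = b.1.1
    rw [← hb]
    exact Fin.snoc_init_self _
  · intro v
    apply Subtype.ext
    change (Fin.snoc a.1 v.1 : Fin (k + 1) → Fin n → F) (Fin.last k) = v.1
    exact Fin.snoc_last _ _

omit [Fintype F] in
theorem G_succ2 (r : ℕ) :
    q ^ ((r + 2) * ((r + 2) - 1) / 2) * ∏ i ∈ Finset.range (r + 2),
        (if Even i then q ^ (i + 1) + 1 else q ^ (i + 1) - 1)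
      = q ^ (2 * r + 1) * ((if Even r then q ^ (r + 1) + 1 else q ^ (r + 1) - 1) *
          (if Even (r + 1) then q ^ (r + 1 + 1) + 1 else q ^ (r + 1 + 1) - 1)) *
        (q ^ (r * (r - 1) / 2) * ∏ i ∈ Finset.range r,
          (if Even i then q ^ (i + 1) + 1 else q ^ (i + 1) - 1)) := by
  have hexp : (r + 2) * ((r + 2) - 1) / 2 = r * (r - 1) / 2 + (2 * r + 1) := by
    cases r with
    | zero => rfl
    | succ j =>
      have h0 : (j + 1 + 2) - 1 = j + 2 := by omega
      have h0' : j + 1 - 1 = j := by omega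
      have h1 : (j + 1 + 2) * ((j + 1 + 2) - 1) = (j + 1) * (j + 1 - 1) + 2 * (2 * (j + 1) + 1) := by
        rw [h0, h0']
        ring
      rw [h1, Nat.add_mul_div_left _ _ (by norm_num)]
  rw [hexp, pow_add, Finset.prod_range_succ, Finset.prod_range_succ]
  ring

include hφq hφ2 hφne hF in
theorem frames_formula (n : ℕ) : ∀ k, 2 * k ≤ n →
    q ^ (n * (n - 1) / 2) * ∏ i ∈ Finset.range n,
        (if Even i then q ^ (i + 1) + 1 else q ^ (i + 1) - 1)
      = q ^ (k * (2 * n - 3 * k)) * (q ^ ((n - 2 * k) * ((n - 2 * k) - 1) / 2) *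
          ∏ i ∈ Finset.range (n - 2 * k), (if Even i then q ^ (i + 1) + 1 else q ^ (i + 1) - 1)) *
        Nat.card (TIFrame n F q k) := by
  intro k
  induction k with
  | zero =>
    intro _
    rw [card_frames_zero]
    simp
  | succ k ih =>
    intro hk
    obtain ⟨r, hr⟩ : ∃ r, n = 2 * k + 2 + r := ⟨n - (2 * k + 2), by omega⟩
    rw [ih (by omega), card_frames_succ φ hφq hφ2 hφne hF k r hr]
    have h1 : n - 2 * k = r + 2 := by omega
    have h2 : n - 2 * (k + 1) = r := by omega
    have h3 : 2 * n - 3 * k = k + 2 * r + 4 := by omega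
    have h4 : 2 * n - 3 * (k + 1) = k + 2 * r + 1 := by omega
    rw [h1, h2, h3, h4, G_succ2]
    ring

end form

end Cfsg.Agent.Lib.Helper7.TICount
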