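import Mathlib
import Cfsg.Prelude
import Cfsg.Agent.S0278
import Cfsg.Agent.S0779
import Cfsg.Agent.S0780
import Cfsg.Agent.S0829
import Cfsg.Agent.S0837
import Cfsg.Agent.Lib.Helper3.SUCenter
import Cfsg.Agent.Lib.Helper7.TICount

set_option autoImplicit false
set_option linter.unusedVariables false
set_option linter.unusedSectionVars false
set_option linter.style.haveILetI false
set_option linter.unnecessarySeqFocus false

/-!
The unipotent radical of a Borel subgroup of the special unitary group, as an explicit group of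
pairs `(a, b)` with `b + b^q = -a^(q+1)`, and its embedding by rank-two updates of the identity.
In characteristic two and dimension three this is a Sylow 2-subgroup.
-/

namespace Cfsg.Agent.Lib.Helper7.SU3Unip

open Cfsg
open Cfsg.Agent.Lib.Helper7.SU3Invol (h_add_left h_smul_left h_sub_left h_add_right h_smul_right
  h_sub_right h_symm h_single_left h_single_right)
open Cfsg.Agent.Lib.Helper7.TICount (trace_surj card_fix)
open Cfsg.Agent.S0828 (card_fiber)
open scoped commutatorElement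
open Cfsg.Agent.S0829 (herm_self_pow two_le_q phi_ne_id herm_Bh)

section heis

variable {F : Type*} [Field F]

/-- the Heisenberg-type group on pairs, twisted by `φ` -/
@[ext] structure Heis (φ : F →+* F) where
  a : F
  b : F

variable (φ : F →+* F)

instance : Mul (Heis φ) := ⟨fun x y => ⟨x.a + y.a, x.b + y.b - x.a * φ y.a⟩⟩
instance : One (Heis φ) := ⟨⟨0, 0⟩⟩
instance : Inv (Heis φ) := ⟨fun x => ⟨-x.a, -x.b - x.a * φ x.a⟩⟩

theorem mul_a (x y : Heis φ) : (x * y).a = x.a + y.a := rfl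
theorem mul_b (x y : Heis φ) : (x * y).b = x.b + y.b - x.a * φ y.a := rfl
theorem one_a : (1 : Heis φ).a = 0 := rfl
theorem one_b : (1 : Heis φ).b = 0 := rfl
theorem inv_a (x : Heis φ) : (x⁻¹).a = -x.a := rfl
theorem inv_b (x : Heis φ) : (x⁻¹).b = -x.b - x.a * φ x.a := rfl

instance : Group (Heis φ) := Group.ofLeftAxioms
  (by
    intro x y z
    ext
    · simp only [mul_a]
      ring
    · simp only [mul_a, mul_b, map_add]
      ring)
  (by
    intro x
    ext
    · simp only [mul_a, one_a, zero_add]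
    · simp only [mul_b, one_a, one_b, zero_add, zero_mul, sub_zero])
  (by
    intro x
    ext
    · simp only [mul_a, inv_a, one_a]
      ring
    · simp only [mul_b, inv_a, inv_b, one_b]
      ring)

/-- pairs -/
def Heis.equivProd : Heis φ ≃ F × F :=
  ⟨fun x => (x.a, x.b), fun p => ⟨p.1, p.2⟩, fun x => rfl, fun p => rfl⟩

instance [Finite F] : Finite (Heis φ) := Finite.of_equiv _ (Heis.equivProd φ).symm

/-- the unitary condition -/
def UG (hφ2 : ∀ a : F, φ (φ a) = a) : Subgroup (Heis φ) where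
  carrier := {x | x.b + φ x.b = -(x.a * φ x.a)}
  mul_mem' := by
    intro x y hx hy
    simp only [Set.mem_ofPred_eq, mul_a, mul_b, map_add, map_sub, map_mul, hφ2] at hx hy ⊢
    linear_combination hx + hy
  one_mem' := by simp [one_a, one_b]
  inv_mem' := by
    intro x hx
    simp only [Set.mem_ofPred_eq, inv_a, inv_b, map_neg, map_sub, map_mul, hφ2] at hx ⊢
    linear_combination (-1 : F) * hx

theorem mem_UG (hφ2 : ∀ a : F, φ (φ a) = a) (x : Heis φ) :
    x ∈ UG φ hφ2 ↔ x.b + φ x.b = -(x.a * φ x.a) := Iff.rfl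

end heis

section mats

variable {F : Type*} [Field F] {n : ℕ} {q : ℕ}

/-- a hyperbolic pair `w, w'` together with a unit vector `u` orthogonal to both -/
structure HFrame (n : ℕ) (F : Type*) [Field F] (q : ℕ) where
  w : Fin n → F
  u : Fin n → F
  w' : Fin n → F
  ww : hermForm n F q w w = 0
  w'w' : hermForm n F q w' w' = 0
  w'w : hermForm n F q w' w = 1
  ww' : hermForm n F q w w' = 1
  uu : hermForm n F q u u = 1
  uw : hermForm n F q u w = 0
  wu : hermForm n F q w u = 0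
  uw' : hermForm n F q u w' = 0
  w'u : hermForm n F q w' u = 0

variable (φ : F →+* F) (hφq : ∀ a : F, φ a = a ^ q) (hφ2 : ∀ a : F, φ (φ a) = a)
  (fr : HFrame n F q)

/-- the matrix of the unipotent element with parameters `a, b` -/
def gm (a b : F) : Matrix (Fin n) (Fin n) F :=
  1 + Matrix.vecMulVec (a • fr.w) (fun j => φ (fr.u j))
    + Matrix.vecMulVec ((-φ a) • fr.u + b • fr.w) (fun j => φ (fr.w j))

include hφq in
theorem gm_mulVec (a b : F) (x : Fin n → F) :
    (gm φ fr a b).mulVec x = x + hermForm n F q x fr.u • (a • fr.w)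
      + hermForm n F q x fr.w • ((-φ a) • fr.u + b • fr.w) := by
  rw [gm, Cfsg.Agent.S0780.rank_two_mulVec]
  simp only [← herm_Bh φ hφq]

include hφq in
theorem gm_det (a b : F) : (gm φ fr a b).det = 1 := by
  rw [gm, Cfsg.Agent.S0780.det_rank_two]
  simp only [← herm_Bh φ hφq, h_add_left, h_smul_left, fr.ww, fr.wu, fr.uw]
  ring

include hφq hφ2 in
theorem gm_pres (a b : F) (hab : b + φ b = -(a * φ a)) (x y : Fin n → F) :
    hermForm n F q ((gm φ fr a b).mulVec x) ((gm φ fr a b).mulVec y) = hermForm n F q x y := by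
  rw [gm_mulVec φ hφq, gm_mulVec φ hφq]
  have e1 : hermForm n F q fr.w y = φ (hermForm n F q y fr.w) := h_symm φ hφq hφ2 y fr.w
  have e2 : hermForm n F q fr.u y = φ (hermForm n F q y fr.u) := h_symm φ hφq hφ2 y fr.u
  simp only [h_add_left, h_smul_left, h_add_right φ hφq, h_smul_right φ hφq, fr.ww, fr.wu, fr.uw,
    fr.uu, e1, e2, map_neg, hφ2]
  linear_combination (hermForm n F q x fr.w * φ (hermForm n F q y fr.w)) * hab

include hφq in
theorem gm_mul (a b a' b' : F) :
    gm φ fr a b * gm φ fr a' b' = gm φ fr (a + a') (b + b' - a * φ a') := by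
  apply Cfsg.Agent.S0780.mat_ext'
  intro x
  rw [← Matrix.mulVec_mulVec, gm_mulVec φ hφq fr a' b', gm_mulVec φ hφq, gm_mulVec φ hφq]
  simp only [h_add_left, h_smul_left, fr.ww, fr.wu, fr.uw, fr.uu, map_add]
  module

theorem gm_one : gm φ fr 0 0 = 1 := by
  simp [gm]

include hφq in
theorem gm_coord_a (a b : F) :
    hermForm n F q ((gm φ fr a b).mulVec fr.u) fr.w' = a := by
  rw [gm_mulVec φ hφq]
  simp only [h_add_left, h_smul_left, fr.uu, fr.uw, fr.uw', fr.ww']
  ring

include hφq in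
theorem gm_coord_b (a b : F) :
    hermForm n F q ((gm φ fr a b).mulVec fr.w') fr.w' = b := by
  rw [gm_mulVec φ hφq]
  simp only [h_add_left, h_smul_left, fr.w'u, fr.w'w, fr.uw', fr.ww', fr.w'w']
  ring

include hφq in
theorem gm_fix_w (a b : F) : (gm φ fr a b).mulVec fr.w = fr.w := by
  rw [gm_mulVec φ hφq]
  simp only [fr.wu, fr.ww, zero_smul, add_zero]

/-- the embedding into the special unitary group -/
def suHom : ↥(UG φ hφ2) →* ↥(SU n F q) where
  toFun x := ⟨⟨gm φ fr x.1.a x.1.b, gm_det φ hφq fr _ _⟩,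
    fun y z => gm_pres φ hφq hφ2 fr _ _ x.2 y z⟩
  map_one' := by
    apply Subtype.ext
    apply Subtype.ext
    exact gm_one φ fr
  map_mul' x y := by
    apply Subtype.ext
    apply Subtype.ext
    exact (gm_mul φ hφq fr x.1.a x.1.b y.1.a y.1.b).symm

theorem suHom_val (x : ↥(UG φ hφ2)) :
    (suHom φ hφq hφ2 fr x).1.1 = gm φ fr x.1.a x.1.b := rfl

theorem suHom_injective : Function.Injective (suHom φ hφq hφ2 fr) := by
  intro x y hxy
  have h1 : gm φ fr x.1.a x.1.b = gm φ fr y.1.a y.1.b :=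
    congrArg (fun s : ↥(SU n F q) => s.1.1) hxy
  apply Subtype.ext
  apply Heis.ext
  · rw [← gm_coord_a φ hφq fr x.1.a x.1.b, h1, gm_coord_a φ hφq]
  · rw [← gm_coord_b φ hφq fr x.1.a x.1.b, h1, gm_coord_b φ hφq]

end mats

section three

variable {F : Type*} [Field F] [Fintype F] {q : ℕ} (φ : F →+* F)
  (hφq : ∀ a : F, φ a = a ^ q) (hφ2 : ∀ a : F, φ (φ a) = a) (hφne : φ ≠ RingHom.id F)
  (hF : Fintype.card F = q ^ 2) (h2 : (2 : F) = 0)

omit [Fintype F] in
include hφq hφ2 hφne h2 in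
theorem exists_frame : Nonempty (HFrame 3 F q) := by
  obtain ⟨c, hc⟩ := trace_surj φ hφ2 hφne 1 (map_one φ)
  refine ⟨⟨![1, 1, 0], ![0, 0, 1], ![c, c + 1, 0], ?_, ?_, ?_, ?_, ?_, ?_, ?_, ?_, ?_⟩⟩
  · simp only [hermForm, Fin.sum_univ_three, ← hφq]
    simp
    linear_combination h2
  · simp only [hermForm, Fin.sum_univ_three, ← hφq]
    simp
    linear_combination (c * φ c + 1) * h2 + hc
  · simp only [hermForm, Fin.sum_univ_three, ← hφq]
    simp
    linear_combination c * h2
  · simp only [hermForm, Fin.sum_univ_three, ← hφq]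
    simp
    linear_combination φ c * h2
  · simp only [hermForm, Fin.sum_univ_three, ← hφq]
    simp
  · simp only [hermForm, Fin.sum_univ_three, ← hφq]
    simp
  · simp only [hermForm, Fin.sum_univ_three, ← hφq]
    simp
  · simp only [hermForm, Fin.sum_univ_three, ← hφq]
    simp
  · simp only [hermForm, Fin.sum_univ_three, ← hφq]
    simp

include hφ2 hφne hF h2 in
theorem card_UG : Nat.card ↥(UG φ hφ2) = q ^ 3 := by
  have hfib : ∀ a : F, Nat.card {x : ↥(UG φ hφ2) // x.1.a = a} = q := by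
    intro a
    obtain ⟨b₀, hb₀⟩ := trace_surj φ hφ2 hφne (-(a * φ a))
      (by rw [map_neg, map_mul, hφ2, mul_comm])
    rw [← card_fix φ hφ2 hφne hF]
    refine Nat.card_congr
      { toFun := fun x => ⟨x.1.1.b - b₀, ?_⟩
        invFun := fun t => ⟨⟨⟨a, t.1 + b₀⟩, ?_⟩, rfl⟩
        left_inv := ?_
        right_inv := ?_ }
    · have h1 := (mem_UG φ hφ2 x.1.1).mp x.1.2
      rw [x.2] at h1
      rw [map_sub]
      linear_combination h1 - hb₀ - (x.1.1.b - b₀) * h2
    · rw [mem_UG]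
      have h3 := t.2
      simp only [map_add]
      linear_combination hb₀ + h3 + t.1 * h2
    · intro x
      apply Subtype.ext
      apply Subtype.ext
      apply Heis.ext
      · exact x.2.symm
      · exact sub_add_cancel _ _
    · intro t
      apply Subtype.ext
      exact add_sub_cancel_right _ _
  rw [card_fiber (fun x : ↥(UG φ hφ2) => x.1.a) q hfib, Nat.card_eq_fintype_card, hF]
  ring

/-- the embedding into the projective group -/
def psuHom (fr : HFrame 3 F q) : ↥(UG φ hφ2) →* PSU 3 F q :=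
  (QuotientGroup.mk' (Subgroup.center ↥(SU 3 F q))).comp (suHom φ hφq hφ2 fr)

include hF in
theorem psuHom_injective (fr : HFrame 3 F q) : Function.Injective (psuHom φ hφq hφ2 fr) := by
  have hq0 : q ≠ 0 := by
    have := two_le_q hF
    omega
  rw [injective_iff_map_eq_one]
  intro x hx
  have h1 : suHom φ hφq hφ2 fr x ∈ Subgroup.center ↥(SU 3 F q) :=
    (QuotientGroup.eq_one_iff _).mp hx
  obtain ⟨l, hl⟩ := (Cfsg.Agent.Lib.Helper3.su_center_iff hF 3 _).mp h1
  have h3 := gm_fix_w φ hφq fr x.1.a x.1.b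
  rw [← suHom_val φ hφq hφ2 fr x, hl, Matrix.smul_mulVec, Matrix.one_mulVec] at h3
  have hw0 : fr.w ≠ 0 := by
    intro h0
    have h4 := fr.w'w
    rw [h0, Cfsg.Agent.S0829.herm_zero_right hq0] at h4
    exact zero_ne_one h4
  have hl1 : l = 1 := by
    have h5 : (l - 1) • fr.w = 0 := by rw [sub_smul, one_smul, h3, sub_self]
    rcases smul_eq_zero.mp h5 with h6 | h6
    · exact sub_eq_zero.mp h6
    · exact absurd h6 hw0
  have h7 : suHom φ hφq hφ2 fr x = 1 := by
    apply Subtype.ext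
    apply Subtype.ext
    rw [hl, hl1, one_smul]
    rfl
  exact suHom_injective φ hφq hφ2 fr (h7.trans (map_one _).symm)

include hF in
theorem card_SU3 : Nat.card ↥(SU 3 F q) = q ^ 3 * ((q ^ 2 - 1) * (q ^ 3 + 1)) := by
  have h1 := Cfsg.Agent.S0278.result hF 3 (by norm_num)
  have h2' : (3 * (3 - 1) / 2 : ℕ) = 3 := by norm_num
  rw [h2', Finset.prod_range_succ, Finset.prod_range_succ, Finset.prod_range_one] at h1
  have e0 : Even 0 := ⟨0, rfl⟩
  have e1 : ¬ Even 1 := by decide
  have e2 : Even 2 := ⟨1, rfl⟩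
  rw [if_pos e0, if_neg e1, if_pos e2] at h1
  have h3 : (q + 1) * Nat.card ↥(SU 3 F q)
      = (q + 1) * (q ^ 3 * ((q ^ 2 - 1) * (q ^ 3 + 1))) := by
    rw [h1]
    ring
  exact Nat.eq_of_mul_eq_mul_left (by omega) h3

include hF in
theorem two_eq_zero_of (m : ℕ) (hm : 1 ≤ m) (hq : q = 2 ^ m) : (2 : F) = 0 := by
  have h1 := FiniteField.cast_card_eq_zero F
  rw [hF, hq] at h1
  push_cast at h1
  rw [← pow_mul] at h1
  exact (pow_eq_zero_iff (by omega)).mp h1

include hφq hφ2 hφne hF in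
theorem exists_equiv (m : ℕ) (hm : 1 ≤ m) (hq : q = 2 ^ m) (S : Sylow 2 (PSU 3 F q)) :
    Nonempty (↥(S : Subgroup (PSU 3 F q)) ≃* ↥(UG φ hφ2)) := by
  classical
  have h2 : (2 : F) = 0 := by
    have h1 := FiniteField.cast_card_eq_zero F
    rw [hF, hq] at h1
    push_cast at h1
    rw [← pow_mul] at h1
    exact (pow_eq_zero_iff (by omega)).mp h1
  obtain ⟨fr⟩ := exists_frame φ hφq hφ2 hφne h2
  have hinj := psuHom_injective φ hφq hφ2 hF fr
  let e₀ : ↥(UG φ hφ2) ≃* ↥(psuHom φ hφq hφ2 fr).range := MonoidHom.ofInjective hinj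
  have hP0card : Nat.card ↥(psuHom φ hφq hφ2 fr).range = q ^ 3 := by
    rw [← Nat.card_congr e₀.toEquiv, card_UG φ hφ2 hφne hF h2]
  have hq3 : q ^ 3 = 2 ^ (3 * m) := by
    rw [hq, ← pow_mul, mul_comm]
  have hP0 : IsPGroup 2 ↥(psuHom φ hφq hφ2 fr).range :=
    IsPGroup.of_card (n := 3 * m) (by rw [hP0card, hq3])
  obtain ⟨S₁, hS₁⟩ := hP0.exists_le_sylow
  have hS₁card : Nat.card ↥(S₁ : Subgroup (PSU 3 F q)) = q ^ 3 := by
    obtain ⟨k, hk⟩ := IsPGroup.iff_card.mp S₁.isPGroup'
    have h1 : q ^ 3 ≤ 2 ^ k := by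
      rw [← hk, ← hP0card]
      exact Subgroup.card_le_of_le hS₁
    have hSU := card_SU3 hF
    have h3 : 2 ^ k ∣ Nat.card ↥(SU 3 F q) := by
      rw [← hk, Subgroup.card_eq_card_quotient_mul_card_subgroup (Subgroup.center ↥(SU 3 F q))]
      exact (Subgroup.card_subgroup_dvd_card _).mul_right _
    rw [hSU] at h3
    have hqe : Even q := by
      rw [hq]
      exact (Nat.even_pow.mpr ⟨even_two, by omega⟩)
    have hodd : Odd ((q ^ 2 - 1) * (q ^ 3 + 1)) := by
      apply Odd.mul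
      · exact Nat.Even.sub_odd (Nat.one_le_pow _ _ (by rw [hq]; positivity))
          (Nat.even_pow.mpr ⟨hqe, by norm_num⟩) odd_one
      · exact (Nat.even_pow.mpr ⟨hqe, by norm_num⟩).add_one
    have hcop : Nat.Coprime (2 ^ k) ((q ^ 2 - 1) * (q ^ 3 + 1)) :=
      Nat.Coprime.pow_left k (Nat.coprime_two_left.mpr hodd)
    have h4 : 2 ^ k ∣ q ^ 3 := hcop.dvd_of_dvd_mul_right h3
    have h5 : 2 ^ k ≤ q ^ 3 := Nat.le_of_dvd (by rw [hq]; positivity) h4
    rw [hk]
    omega
  have hEq : (psuHom φ hφq hφ2 fr).range = (S₁ : Subgroup (PSU 3 F q)) :=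
    Subgroup.eq_of_le_of_card_ge hS₁ (by rw [hP0card, hS₁card])
  obtain ⟨g, hg⟩ := MulAction.exists_smul_eq (PSU 3 F q) S₁ S
  have e₁ : ↥(S₁ : Subgroup (PSU 3 F q)) ≃* ↥(S : Subgroup (PSU 3 F q)) := by
    rw [← hg]
    exact Sylow.equivSMul S₁ g
  exact ⟨(e₁.symm.trans (MulEquiv.subgroupCongr hEq).symm).trans e₀.symm⟩

end three

section props

variable {F : Type*} [Field F] [Fintype F] {q : ℕ} (φ : F →+* F)
  (hφq : ∀ a : F, φ a = a ^ q) (hφ2 : ∀ a : F, φ (φ a) = a) (hφne : φ ≠ RingHom.id F)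
  (hF : Fintype.card F = q ^ 2) (h2 : (2 : F) = 0)
  {P : Type*} [Group P] (e : P ≃* ↥(UG φ hφ2))

omit [Fintype F] in
theorem cA_mul (p p' : P) : (e (p * p')).1.a = (e p).1.a + (e p').1.a := by
  rw [map_mul]
  rfl

omit [Fintype F] in
theorem cB_mul (p p' : P) :
    (e (p * p')).1.b = (e p).1.b + (e p').1.b - (e p).1.a * φ (e p').1.a := by
  rw [map_mul]
  rfl

omit [Fintype F] in
theorem cA_one : (e 1).1.a = 0 := by
  rw [map_one]
  rfl

omit [Fintype F] in
theorem cB_one : (e 1).1.b = 0 := by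
  rw [map_one]
  rfl

omit [Fintype F] in
theorem c_cond (p : P) : (e p).1.b + φ (e p).1.b = -((e p).1.a * φ (e p).1.a) := (e p).2

omit [Fintype F] in
theorem c_ext {p p' : P} (ha : (e p).1.a = (e p').1.a) (hb : (e p).1.b = (e p').1.b) : p = p' :=
  e.injective (Subtype.ext (Heis.ext ha hb))

omit [Fintype F] in
theorem c_mk (a b : F) (h : b + φ b = -(a * φ a)) :
    ∃ p : P, (e p).1.a = a ∧ (e p).1.b = b :=
  ⟨e.symm ⟨⟨a, b⟩, h⟩, by rw [e.apply_symm_apply], by rw [e.apply_symm_apply]⟩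

omit [Fintype F] in
include hφne in
theorem c_mk_a (a : F) : ∃ p : P, (e p).1.a = a := by
  obtain ⟨b, hb⟩ := trace_surj φ hφ2 hφne (-(a * φ a)) (by rw [map_neg, map_mul, hφ2, mul_comm])
  obtain ⟨p, hp, -⟩ := c_mk φ hφ2 e a b hb
  exact ⟨p, hp⟩

omit [Fintype F] in
theorem comm_iff (p p' : P) :
    p * p' = p' * p ↔ (e p).1.a * φ (e p').1.a = (e p').1.a * φ (e p).1.a := by
  constructor
  · intro h
    have h1 := congrArg (fun x => (e x).1.b) h
    simp only [cB_mul] at h1
    linear_combination -h1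
  · intro h
    apply c_ext φ hφ2 e
    · rw [cA_mul, cA_mul, add_comm]
    · rw [cB_mul, cB_mul]
      linear_combination -h

omit [Fintype F] in
include hφne in
theorem center_iff (p : P) : p ∈ Subgroup.center P ↔ (e p).1.a = 0 := by
  rw [Subgroup.mem_center_iff]
  constructor
  · intro h
    obtain ⟨p₁, ha₁⟩ := c_mk_a φ hφ2 hφne e 1
    obtain ⟨θ, hθ⟩ : ∃ x : F, φ x ≠ x := by
      by_contra hcon
      push Not at hcon
      exact hφne (RingHom.ext hcon)
    obtain ⟨p₂, ha₂⟩ := c_mk_a φ hφ2 hφne e θ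
    have h1 := (comm_iff φ hφ2 e p₁ p).mp (h p₁)
    rw [ha₁, map_one, one_mul, mul_one] at h1
    have h2' := (comm_iff φ hφ2 e p₂ p).mp (h p₂)
    rw [ha₂] at h2'
    have h3 : (e p).1.a * (φ θ - θ) = 0 := by linear_combination θ * h1 - h2'
    rcases mul_eq_zero.mp h3 with h4 | h4
    · exact h4
    · exact absurd (sub_eq_zero.mp h4) hθ
  · intro h g
    rw [comm_iff φ hφ2 e, h, map_zero, mul_zero, zero_mul]

omit [Fintype F] in
include h2 in
theorem fix_of_a0 (p : P) (h : (e p).1.a = 0) : φ (e p).1.b = (e p).1.b := by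
  have h1 := c_cond φ hφ2 e p
  rw [h, zero_mul, neg_zero] at h1
  linear_combination h1 - (e p).1.b * h2

include hφne hF h2 e in
theorem card_center : Nat.card (Subgroup.center P) = q := by
  rw [← card_fix φ hφ2 hφne hF]
  refine Nat.card_congr
    { toFun := fun z => ⟨(e z.1).1.b, fix_of_a0 φ hφ2 h2 e z.1 ((center_iff φ hφ2 hφne e z.1).mp z.2)⟩
      invFun := fun t => ⟨e.symm ⟨⟨0, t.1⟩, ?_⟩, ?_⟩
      left_inv := ?_
      right_inv := ?_ }
  · rw [mem_UG]
    have h3 := t.2
    simp only [zero_mul, neg_zero]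
    linear_combination h3 + t.1 * h2
  · rw [center_iff φ hφ2 hφne e, e.apply_symm_apply]
  · intro z
    apply Subtype.ext
    apply c_ext φ hφ2 e
    · rw [e.apply_symm_apply]
      exact ((center_iff φ hφ2 hφne e z.1).mp z.2).symm
    · rw [e.apply_symm_apply]
  · intro t
    apply Subtype.ext
    simp only [e.apply_symm_apply]

omit [Fintype F] in
include hφne e in
theorem exists_noncomm : ∃ x y : P, x * y ≠ y * x := by
  obtain ⟨p₁, ha₁⟩ := c_mk_a φ hφ2 hφne e 1
  obtain ⟨θ, hθ⟩ : ∃ x : F, φ x ≠ x := by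
    by_contra hcon
    push Not at hcon
    exact hφne (RingHom.ext hcon)
  obtain ⟨p₂, ha₂⟩ := c_mk_a φ hφ2 hφne e θ
  refine ⟨p₁, p₂, fun h => ?_⟩
  have h1 := (comm_iff φ hφ2 e p₁ p₂).mp h
  rw [ha₁, ha₂, map_one, one_mul, mul_one] at h1
  exact hθ h1

omit [Fintype F] in
include h2 in
theorem invol_iff (p : P) : (p ≠ 1 ∧ p * p = 1) ↔ ((e p).1.a = 0 ∧ (e p).1.b ≠ 0) := by
  constructor
  · rintro ⟨h1, h3⟩
    have h4 := congrArg (fun x => (e x).1.b) h3
    simp only [cB_mul, cB_one] at h4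
    have h5 : (e p).1.a * φ (e p).1.a = 0 := by linear_combination -h4 + (e p).1.b * h2
    have ha : (e p).1.a = 0 := by
      rcases mul_eq_zero.mp h5 with h6 | h6
      · exact h6
      · exact (map_eq_zero φ).mp h6
    refine ⟨ha, fun hb => h1 ?_⟩
    apply c_ext φ hφ2 e
    · rw [ha, cA_one]
    · rw [hb, cB_one]
  · rintro ⟨ha, hb⟩
    refine ⟨fun h => hb ?_, ?_⟩
    · rw [h, cB_one]
    · apply c_ext φ hφ2 e
      · rw [cA_mul, cA_one, ha, add_zero]
      · rw [cB_mul, cB_one, ha, zero_mul, sub_zero]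
        linear_combination (e p).1.b * h2

omit [Fintype F] in
include h2 in
theorem sq_inj (l l' : F) (h : l ^ 2 = l' ^ 2) : l = l' := by
  have h1 : (l - l') ^ 2 = 0 := by linear_combination h + (l' ^ 2 - l * l') * h2
  exact sub_eq_zero.mp ((pow_eq_zero_iff (two_ne_zero)).mp h1)

omit [Fintype F] in
/-- units fixed by `φ` -/
def fixU : Subgroup Fˣ where
  carrier := {l | φ (l : F) = l}
  mul_mem' := by
    intro a b ha hb
    have ha' : φ (a : F) = a := ha
    have hb' : φ (b : F) = b := hb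
    change φ ((a * b : Fˣ) : F) = ((a * b : Fˣ) : F)
    rw [Units.val_mul, map_mul, ha', hb']
  one_mem' := by
    change φ ((1 : Fˣ) : F) = ((1 : Fˣ) : F)
    rw [Units.val_one, map_one]
  inv_mem' := by
    intro a ha
    have ha' : φ (a : F) = a := ha
    change φ ((a⁻¹ : Fˣ) : F) = ((a⁻¹ : Fˣ) : F)
    rw [Units.val_inv_eq_inv_val, map_inv₀, ha']

omit [Fintype F] in
theorem scal_mem (l : F) (hl : φ l = l) (x : Heis φ) (hx : x ∈ UG φ hφ2) :
    (⟨l * x.a, l ^ 2 * x.b⟩ : Heis φ) ∈ UG φ hφ2 := by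
  rw [mem_UG] at hx ⊢
  simp only [map_mul, map_pow, hl]
  linear_combination l ^ 2 * hx

omit [Fintype F] in
theorem fixU_inv_mul (l : ↥(fixU φ)) : (((l⁻¹ : ↥(fixU φ)).1 : Fˣ) : F) * ((l.1 : Fˣ) : F) = 1 := by
  rw [← Units.val_mul, ← Subgroup.coe_mul, inv_mul_cancel]
  rfl

omit [Fintype F] in
theorem fixU_mul_inv (l : ↥(fixU φ)) : ((l.1 : Fˣ) : F) * (((l⁻¹ : ↥(fixU φ)).1 : Fˣ) : F) = 1 := by
  rw [← Units.val_mul, ← Subgroup.coe_mul, mul_inv_cancel]
  rfl

/-- scaling automorphism -/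
def scalP (l : ↥(fixU φ)) : P ≃* P where
  toFun p := e.symm ⟨⟨((l.1 : Fˣ) : F) * (e p).1.a, ((l.1 : Fˣ) : F) ^ 2 * (e p).1.b⟩,
    scal_mem φ hφ2 _ l.2 _ (e p).2⟩
  invFun p := e.symm ⟨⟨(((l⁻¹ : ↥(fixU φ)).1 : Fˣ) : F) * (e p).1.a,
    (((l⁻¹ : ↥(fixU φ)).1 : Fˣ) : F) ^ 2 * (e p).1.b⟩, scal_mem φ hφ2 _ (l⁻¹).2 _ (e p).2⟩
  left_inv p := by
    apply c_ext φ hφ2 e
    · simp only [e.apply_symm_apply]
      linear_combination (e p).1.a * fixU_inv_mul φ l
    · simp only [e.apply_symm_apply]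
      linear_combination ((e p).1.b * ((((l⁻¹ : ↥(fixU φ)).1 : Fˣ) : F) * ((l.1 : Fˣ) : F) + 1))
        * fixU_inv_mul φ l
  right_inv p := by
    apply c_ext φ hφ2 e
    · simp only [e.apply_symm_apply]
      linear_combination (e p).1.a * fixU_mul_inv φ l
    · simp only [e.apply_symm_apply]
      linear_combination ((e p).1.b * (((l.1 : Fˣ) : F) * (((l⁻¹ : ↥(fixU φ)).1 : Fˣ) : F) + 1))
        * fixU_mul_inv φ l
  map_mul' p p' := by
    have hl : φ ((l.1 : Fˣ) : F) = ((l.1 : Fˣ) : F) := l.2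
    have hA : ∀ X Y : ↥(UG φ hφ2), (X * Y).1.a = X.1.a + Y.1.a := fun _ _ => rfl
    have hB : ∀ X Y : ↥(UG φ hφ2), (X * Y).1.b = X.1.b + Y.1.b - X.1.a * φ Y.1.a :=
      fun _ _ => rfl
    apply c_ext φ hφ2 e
    · simp only [map_mul, e.apply_symm_apply, hA]
      ring
    · simp only [map_mul, e.apply_symm_apply, hA, hB, hl]
      ring

omit [Fintype F] in
theorem scalP_A (l : ↥(fixU φ)) (p : P) :
    (e (scalP φ hφ2 e l p)).1.a = ((l.1 : Fˣ) : F) * (e p).1.a := by
  change (e (e.symm _)).1.a = _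
  rw [e.apply_symm_apply]

omit [Fintype F] in
theorem scalP_B (l : ↥(fixU φ)) (p : P) :
    (e (scalP φ hφ2 e l p)).1.b = ((l.1 : Fˣ) : F) ^ 2 * (e p).1.b := by
  change (e (e.symm _)).1.b = _
  rw [e.apply_symm_apply]

/-- the scaling action -/
def scalHom : ↥(fixU φ) →* MulAut P where
  toFun l := scalP φ hφ2 e l
  map_one' := by
    apply MulEquiv.ext
    intro p
    apply c_ext φ hφ2 e
    · rw [scalP_A]
      simp
    · rw [scalP_B]
      simp
  map_mul' l l' := by
    apply MulEquiv.ext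
    intro p
    rw [MulAut.mul_apply]
    apply c_ext φ hφ2 e
    · rw [scalP_A, scalP_A, scalP_A, Subgroup.coe_mul, Units.val_mul]
      ring
    · rw [scalP_B, scalP_B, scalP_B, Subgroup.coe_mul, Units.val_mul]
      ring

omit [Fintype F] in
theorem scalHom_apply (l : ↥(fixU φ)) (p : P) :
    (scalHom φ hφ2 e l) p = scalP φ hφ2 e l p := rfl

include hφne hF h2 e in
theorem suzuki [Finite P] (hq3 : 3 ≤ q) (hP : IsPGroup 2 P) : IsSuzukiTwoGroup P := by
  classical
  refine ⟨inferInstance, hP, exists_noncomm φ hφ2 hφne e, ?_, (scalHom φ hφ2 e).range, ?_, ?_⟩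
  · have hcard := card_fix φ hφ2 hφne hF
    obtain ⟨β, hβ, hβ0, hβ1⟩ : ∃ β : F, φ β = β ∧ β ≠ 0 ∧ β ≠ 1 := by
      by_contra hcon
      push Not at hcon
      have hle : Nat.card {x : F // φ x = x} ≤ 2 := by
        have hinj : Function.Injective
            (fun x : {x : F // φ x = x} => (if x.1 = 0 then (0 : Fin 2) else 1)) := by
          intro x y hxy
          apply Subtype.ext
          by_cases hx : x.1 = 0 <;> by_cases hy : y.1 = 0
          · rw [hx, hy]
          · simp [hx, hy] at hxy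
          · simp [hx, hy] at hxy
          · rw [hcon x.1 x.2 hx, hcon y.1 y.2 hy]
        have h3 := Nat.card_le_card_of_injective _ hinj
        simpa using h3
      omega
    obtain ⟨x, hxa, hxb⟩ := c_mk φ hφ2 e 0 1 (by
      rw [map_one, zero_mul, neg_zero]
      linear_combination h2)
    obtain ⟨y, hya, hyb⟩ := c_mk φ hφ2 e 0 β (by
      rw [hβ, zero_mul, neg_zero]
      linear_combination β * h2)
    have hx := (invol_iff φ hφ2 h2 e x).mpr ⟨hxa, by rw [hxb]; exact one_ne_zero⟩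
    have hy := (invol_iff φ hφ2 h2 e y).mpr ⟨hya, by rw [hyb]; exact hβ0⟩
    refine ⟨x, y, ?_, hx.1, hx.2, hy.1, hy.2⟩
    intro hxy
    rw [hxy, hyb] at hxb
    exact hβ1 hxb
  · exact isCyclic_of_surjective (scalHom φ hφ2 e).rangeRestrict
      (MonoidHom.rangeRestrict_surjective _)
  · intro x y hx1 hx2 hy1 hy2
    obtain ⟨hxa, hxb⟩ := (invol_iff φ hφ2 h2 e x).mp ⟨hx1, hx2⟩
    obtain ⟨hya, hyb⟩ := (invol_iff φ hφ2 h2 e y).mp ⟨hy1, hy2⟩
    have hxf := fix_of_a0 φ hφ2 h2 e x hxa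
    have hyf := fix_of_a0 φ hφ2 h2 e y hya
    have hsurj : Function.Surjective (fun l : F => l ^ 2) :=
      Finite.injective_iff_surjective.mp (fun l l' h => sq_inj h2 l l' h)
    obtain ⟨l, hl⟩ := hsurj ((e y).1.b / (e x).1.b)
    have hl2 : l ^ 2 = (e y).1.b / (e x).1.b := hl
    have hl' : l ^ 2 * (e x).1.b = (e y).1.b := by
      rw [hl2, div_mul_cancel₀ _ hxb]
    have hl0 : l ≠ 0 := by
      rintro rfl
      rw [zero_pow two_ne_zero, zero_mul] at hl'
      exact hyb hl'.symm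
    have hlf : φ l = l := by
      apply sq_inj h2
      rw [← map_pow, hl2, map_div₀, hxf, hyf]
    let lu : ↥(fixU φ) := ⟨Units.mk0 l hl0, hlf⟩
    refine ⟨⟨scalHom φ hφ2 e lu, ⟨lu, rfl⟩⟩, ?_, ?_⟩
    · change (scalHom φ hφ2 e lu) x = y
      rw [scalHom_apply]
      apply c_ext φ hφ2 e
      · rw [scalP_A, hxa, hya, mul_zero]
      · rw [scalP_B]
        exact hl'
    · rintro ⟨k', l', rfl⟩ hk'
      have hk'' : scalP φ hφ2 e l' x = y := hk'
      apply Subtype.ext
      have h5 := congrArg (fun z => (e z).1.b) hk''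
      simp only [scalP_B] at h5
      have h6 : ((l'.1 : Fˣ) : F) ^ 2 = l ^ 2 := mul_right_cancel₀ hxb (h5.trans hl'.symm)
      have h7 : ((l'.1 : Fˣ) : F) = l := sq_inj h2 _ _ h6
      have h8 : l' = lu := Subtype.ext (Units.ext h7)
      rw [h8]

omit [Fintype F] in
/-- the homomorphism to the additive group given by the first coordinate -/
def aHom : P →* Multiplicative F where
  toFun p := Multiplicative.ofAdd (e p).1.a
  map_one' := by
    rw [cA_one]
    rfl
  map_mul' p p' := by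
    rw [cA_mul]
    rfl

omit [Fintype F] in
include hφne h2 e in
theorem commutator_eq_center : commutator P = Subgroup.center P := by
  apply le_antisymm
  · intro x hx
    have h1 := Abelianization.commutator_subset_ker (aHom φ hφ2 e) hx
    rw [MonoidHom.mem_ker] at h1
    rw [center_iff φ hφ2 hφne e]
    exact Multiplicative.ofAdd.injective h1
  · intro z hz
    have hza := (center_iff φ hφ2 hφne e z).mp hz
    have hzf := fix_of_a0 φ hφ2 h2 e z hza
    obtain ⟨t, ht⟩ := trace_surj φ hφ2 hφne (e z).1.b hzf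
    obtain ⟨x, hx⟩ := c_mk_a φ hφ2 hφne e t
    obtain ⟨y, hy⟩ := c_mk_a φ hφ2 hφne e 1
    have h5 : z * (y * x) = x * y := by
      apply c_ext φ hφ2 e
      · rw [cA_mul, cA_mul, cA_mul, hza, hx, hy]
        ring
      · rw [cB_mul, cB_mul, cB_mul, hza, hx, hy, map_one]
        linear_combination -ht + t * h2
    have h6 : z = ⁅x, y⁆ := by
      rw [commutatorElement_def, ← h5]
      group
    rw [h6]
    exact Subgroup.commutator_mem_commutator (Subgroup.mem_top x) (Subgroup.mem_top y)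

omit [Fintype F] in
include hφne h2 e in
theorem center_eq_closure :
    Subgroup.center P = Subgroup.closure {x : P | orderOf x = 2} := by
  apply le_antisymm
  · intro z hz
    by_cases hz1 : z = 1
    · rw [hz1]
      exact Subgroup.one_mem _
    · apply Subgroup.subset_closure
      have hza := (center_iff φ hφ2 hφne e z).mp hz
      have hzb : (e z).1.b ≠ 0 := fun hb =>
        hz1 (c_ext φ hφ2 e (by rw [hza, cA_one]) (by rw [hb, cB_one]))
      have h3 := (invol_iff φ hφ2 h2 e z).mpr ⟨hza, hzb⟩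
      haveI : Fact (Nat.Prime 2) := ⟨Nat.prime_two⟩
      exact orderOf_eq_prime (by rw [pow_two]; exact h3.2) h3.1
  · rw [Subgroup.closure_le]
    intro x hx
    have hx' : orderOf x = 2 := hx
    have h1 : x ≠ 1 := by
      rintro rfl
      rw [orderOf_one] at hx'
      omega
    have h3 : x * x = 1 := by
      rw [← pow_two, ← hx']
      exact pow_orderOf_eq_one x
    exact (center_iff φ hφ2 hφne e x).mpr ((invol_iff φ hφ2 h2 e x).mp ⟨h1, h3⟩).1

omit [Fintype F] in
include hφne h2 e in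
theorem quot_sq (x : P ⧸ Subgroup.center P) : x ^ 2 = 1 := by
  induction x using QuotientGroup.induction_on with
  | H p =>
    rw [← QuotientGroup.mk_pow, QuotientGroup.eq_one_iff, center_iff φ hφ2 hφne e, pow_two,
      cA_mul]
    linear_combination (e p).1.a * h2

include hφne hF h2 e in
theorem kleinFour_center (hq : q = 4) : IsKleinFour (Subgroup.center P) := by
  have hc := card_center φ hφ2 hφne hF h2 e
  refine ⟨by rw [hc, hq], ?_⟩
  have h1 : Monoid.exponent (Subgroup.center P) ∣ 2 :=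
    Monoid.exponent_dvd_of_forall_pow_eq_one (fun z => by
      apply Subtype.ext
      have hza := (center_iff φ hφ2 hφne e z.1).mp z.2
      change z.1 ^ 2 = 1
      apply c_ext φ hφ2 e
      · rw [pow_two, cA_mul, cA_one, hza, add_zero]
      · rw [pow_two, cB_mul, cB_one, hza, zero_mul, sub_zero]
        linear_combination (e z.1).1.b * h2)
  have h3 : Monoid.exponent (Subgroup.center P) ≠ 1 := by
    rw [Ne, Monoid.exp_eq_one_iff]
    intro hsub
    rw [Nat.card_unique, hq] at hc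
    omega
  exact ((Nat.dvd_prime Nat.prime_two).mp h1).resolve_left h3

end props

end Cfsg.Agent.Lib.Helper7.SU3Unip
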