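import Mathlib
import Cfsg.Agent.S0755
import Cfsg.Agent.Lib.Helper7.SU3Unip

set_option autoImplicit false
set_option linter.unusedVariables false
open Cfsg

namespace Cfsg.Agent.Lib.Helper7.SU3Aut

open Cfsg.Agent.Lib.Helper7.TICount (trace_surj card_fix_sq)
open Cfsg.Agent.Lib.Helper7.SU3Unip

section AS

variable {F : Type*} [Field F] [Finite F]

/-- An Artin–Schreier statement: if `K` is an additive subgroup closed under squaring and
containing `1`, and `ε ∉ K` has `ε² + ε ∈ K`, then every `m ∈ K` is `y² + y` with `y ∈ K` or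
`y ∈ K + ε`. -/
theorem artin_schreier (h2 : (2 : F) = 0) (K : AddSubgroup F) (h1 : (1 : F) ∈ K)
    (hsq : ∀ x ∈ K, x ^ 2 ∈ K) (ε : F) (hε : ε ∉ K) (ht : ε ^ 2 + ε ∈ K) (m : F) (hm : m ∈ K) :
    ∃ x ∈ K, x ^ 2 + x = m ∨ (x + ε) ^ 2 + (x + ε) = m := by
  classical
  let ℘ : ↥K →+ ↥K :=
    { toFun := fun x => ⟨x.1 ^ 2 + x.1, K.add_mem (hsq _ x.2) x.2⟩
      map_zero' := by
        apply Subtype.ext
        simp
      map_add' := fun x y => by
        apply Subtype.ext
        simp only [AddSubgroup.coe_add]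
        linear_combination (x.1 * y.1) * h2 }
  have h℘ : ∀ x : ↥K, ((℘ x : ↥K) : F) = x.1 ^ 2 + x.1 := fun x => rfl
  have hker : Nat.card ℘.ker = 2 := by
    rw [Nat.card_eq_two_iff]
    have m0 : (0 : ↥K) ∈ ℘.ker := ℘.ker.zero_mem
    have m1 : (⟨1, h1⟩ : ↥K) ∈ ℘.ker := by
      rw [AddMonoidHom.mem_ker]
      apply Subtype.ext
      rw [h℘]
      simp only [AddSubgroup.coe_zero]
      linear_combination h2
    refine ⟨⟨0, m0⟩, ⟨⟨1, h1⟩, m1⟩, ?_, ?_⟩
    · intro h
      have h3 := congrArg (fun z : ℘.ker => ((z.1 : ↥K) : F)) h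
      simp at h3
    · ext ⟨⟨x, hxK⟩, hx⟩
      simp only [Set.mem_insert_iff, Set.mem_singleton_iff, Set.mem_univ, iff_true]
      have hx' : x ^ 2 + x = 0 := by
        have h3 := congrArg Subtype.val (AddMonoidHom.mem_ker.mp hx)
        rw [h℘] at h3
        simpa using h3
      have h4 : x * (x + 1) = 0 := by linear_combination hx'
      rcases mul_eq_zero.mp h4 with h | h
      · left
        apply Subtype.ext
        apply Subtype.ext
        exact h
      · right
        apply Subtype.ext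
        apply Subtype.ext
        show x = 1
        linear_combination h - h2
  have hidx : ℘.range.index = 2 := by
    have e1 := Nat.card_congr (QuotientAddGroup.quotientKerEquivRange ℘).toEquiv
    have e2 := AddSubgroup.card_eq_card_quotient_mul_card_addSubgroup ℘.ker
    have e3 := AddSubgroup.card_mul_index ℘.range
    rw [e1, hker] at e2
    rw [e2] at e3
    have hpos : 0 < Nat.card ℘.range := Nat.card_pos
    exact Nat.eq_of_mul_eq_mul_left hpos e3
  have htn : (⟨ε ^ 2 + ε, ht⟩ : ↥K) ∉ ℘.range := by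
    rintro ⟨⟨x, hx⟩, hx2⟩
    have h3 : x ^ 2 + x = ε ^ 2 + ε := by
      have h3' := congrArg Subtype.val hx2
      rw [h℘] at h3'
      exact h3'
    have h4 : (x + ε) * (x + ε + 1) = 0 := by
      linear_combination h3 + (ε ^ 2 + ε + x * ε) * h2
    rcases mul_eq_zero.mp h4 with h | h
    · apply hε
      have : ε = x := by linear_combination h - x * h2
      rw [this]
      exact hx
    · apply hε
      have : ε = x + 1 := by linear_combination h - (x + 1) * h2
      rw [this]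
      exact K.add_mem hx h1
  by_cases hmr : (⟨m, hm⟩ : ↥K) ∈ ℘.range
  · obtain ⟨⟨x, hx⟩, hx2⟩ := hmr
    refine ⟨x, hx, Or.inl ?_⟩
    have h3' := congrArg Subtype.val hx2
    rw [h℘] at h3'
    exact h3'
  · have h5 : (⟨m, hm⟩ : ↥K) + ⟨ε ^ 2 + ε, ht⟩ ∈ ℘.range := by
      rw [AddSubgroup.add_mem_iff_of_index_two hidx]
      exact ⟨fun h => absurd h hmr, fun h => absurd h htn⟩
    obtain ⟨⟨x, hx⟩, hx2⟩ := h5
    refine ⟨x, hx, Or.inr ?_⟩
    have h3' : x ^ 2 + x = m + (ε ^ 2 + ε) := by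
      have h3'' := congrArg Subtype.val hx2
      rw [h℘] at h3''
      exact h3''
    linear_combination h3' + (x * ε + ε ^ 2 + ε) * h2

end AS

section basics

variable {F : Type*} [Field F] (φ : F →+* F) (hφ2 : ∀ a : F, φ (φ a) = a) (h2 : (2 : F) = 0)

/-- The norm form. -/
def Nm (a : F) : F := a * φ a

/-- Its polarisation. -/
def bt (a a' : F) : F := a * φ a' + a' * φ a

include hφ2 in
theorem Nm_fix (a : F) : φ (Nm φ a) = Nm φ a := by
  rw [Nm, map_mul, hφ2, mul_comm]

include hφ2 in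
theorem bt_fix (a a' : F) : φ (bt φ a a') = bt φ a a' := by
  rw [bt, map_add, map_mul, map_mul, hφ2, hφ2]
  ring

include hφ2 in
theorem phi_eq_zero (a : F) (h : φ a = 0) : a = 0 := by
  rw [← hφ2 a, h, map_zero]

include hφ2 in
theorem Nm_eq_zero (a : F) (h : Nm φ a = 0) : a = 0 := by
  rcases mul_eq_zero.mp h with h | h
  · exact h
  · exact phi_eq_zero φ hφ2 a h

theorem Nm_smul (c a : F) (hc : φ c = c) : Nm φ (c * a) = c ^ 2 * Nm φ a := by
  rw [Nm, Nm, map_mul, hc]
  ring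

theorem Nm_add (x y : F) : Nm φ (x + y) = Nm φ x + Nm φ y + bt φ x y := by
  rw [Nm, Nm, Nm, bt, map_add]
  ring

theorem bt_comm (x y : F) : bt φ x y = bt φ y x := by
  rw [bt, bt, add_comm]

theorem bt_smul (c c' x y : F) (hc : φ c = c) (hc' : φ c' = c') :
    bt φ (c * x) (c' * y) = c * c' * bt φ x y := by
  rw [bt, bt, map_mul, map_mul, hc, hc']
  ring

include hφ2 h2 in
theorem bt_zero_iff (x a : F) (ha : a ≠ 0) :
    bt φ x a = 0 ↔ ∃ c, φ c = c ∧ x = c * a := by
  have hφa : φ a ≠ 0 := fun h => ha (phi_eq_zero φ hφ2 a h)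
  constructor
  · intro h
    have h' : a * φ x = x * φ a := by
      rw [bt] at h
      linear_combination h - x * φ a * h2
    refine ⟨x * φ a / (a * φ a), ?_, ?_⟩
    · rw [map_div₀, map_mul, map_mul, hφ2]
      field_simp
      linear_combination h'
    · field_simp
  · rintro ⟨c, hc, rfl⟩
    rw [bt, map_mul, hc]
    linear_combination (c * a * φ a) * h2

include h2 in
theorem sq_inj' (l l' : F) (h : l ^ 2 = l' ^ 2) : l = l' := by
  have h3 : (l - l') ^ 2 = 0 := by linear_combination h + (l' ^ 2 - l * l') * h2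
  exact sub_eq_zero.mp (pow_eq_zero_iff (two_ne_zero) |>.mp h3)

include h2 in
theorem exists_sqrt [Finite F] (c : F) (hc : φ c = c) : ∃ d, φ d = d ∧ d ^ 2 = c := by
  have hinj : Function.Injective (fun x : F => x ^ 2) := fun x y h => sq_inj' h2 x y h
  obtain ⟨d, hd⟩ := (Finite.injective_iff_surjective.mp hinj) c
  refine ⟨d, ?_, hd⟩
  apply sq_inj' h2
  rw [← map_pow]
  simp only at hd
  rw [hd, hc]

end basics

section core

variable {F : Type*} [Field F] [Fintype F] (φ : F →+* F) (hφ2 : ∀ a : F, φ (φ a) = a)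
  (hφne : φ ≠ RingHom.id F) (h2 : (2 : F) = 0)
  (A B : F → F)
  (hA_add : ∀ x y, A (x + y) = A x + A y) (hA_inj : ∀ x, A x = 0 → x = 0)
  (hB_add : ∀ x y, φ x = x → φ y = y → B (x + y) = B x + B y)
  (hB_fix : ∀ x, φ x = x → φ (B x) = B x)
  (hB_inj : ∀ x, φ x = x → B x = 0 → x = 0)
  (hN : ∀ a, Nm φ (A a) = B (Nm φ a))

omit [Fintype F] in
include hA_add in
theorem A_zero : A 0 = 0 := by
  have h := hA_add 0 0
  rw [add_zero] at h
  linear_combination -h

omit [Fintype F] in
include hB_add in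
theorem B_zero : B 0 = 0 := by
  have h := hB_add 0 0 (map_zero φ) (map_zero φ)
  rw [add_zero] at h
  linear_combination -h

omit [Fintype F] in
include hφ2 h2 hA_add hB_add hN in
theorem bt_A (x y : F) : bt φ (A x) (A y) = B (bt φ x y) := by
  have e1 : bt φ (A x) (A y) = Nm φ (A (x + y)) + Nm φ (A x) + Nm φ (A y) := by
    rw [hA_add, Nm_add]
    linear_combination (-(Nm φ (A x)) - Nm φ (A y)) * h2
  have e2 : Nm φ (x + y) + Nm φ x + Nm φ y = bt φ x y := by
    rw [Nm_add]
    linear_combination (Nm φ x + Nm φ y) * h2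
  rw [e1, hN, hN, hN, ← hB_add _ _ (Nm_fix φ hφ2 _) (Nm_fix φ hφ2 _),
    ← hB_add _ _ (by rw [map_add, Nm_fix φ hφ2, Nm_fix φ hφ2]) (Nm_fix φ hφ2 _), e2]

omit [Fintype F] in
include hφ2 h2 hA_add hA_inj hB_add hN in
theorem line (a : F) (ha : a ≠ 0) (c : F) (hc : φ c = c) :
    ∃ d, φ d = d ∧ A (c * a) = d * A a := by
  have hAa : A a ≠ 0 := fun h => ha (hA_inj a h)
  apply (bt_zero_iff φ hφ2 h2 (A (c * a)) (A a) hAa).mp
  rw [bt_A φ hφ2 h2 A B hA_add hB_add hN]
  have h0 : bt φ (c * a) a = 0 :=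
    (bt_zero_iff φ hφ2 h2 (c * a) a ha).mpr ⟨c, hc, rfl⟩
  rw [h0, B_zero φ B hB_add]

omit [Fintype F] in
include hN in
theorem line_sq (a c d : F) (hc : φ c = c) (hd : φ d = d) (h : A (c * a) = d * A a) :
    d ^ 2 * B (Nm φ a) = B (c ^ 2 * Nm φ a) := by
  have e1 : Nm φ (A (c * a)) = B (c ^ 2 * Nm φ a) := by rw [hN, Nm_smul φ c a hc]
  have e2 : Nm φ (A (c * a)) = d ^ 2 * B (Nm φ a) := by rw [h, Nm_smul φ d _ hd, hN]
  rw [← e2, e1]

omit [Fintype F] in
include hφ2 h2 hA_add hA_inj hB_add hB_fix hB_inj hN in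
theorem indep (a a' : F) (ha : a ≠ 0) (hind : ∀ c, φ c = c → a' ≠ c * a) (c d d' : F)
    (hc : φ c = c) (hd : φ d = d) (hd' : φ d' = d')
    (h : A (c * a) = d * A a) (h' : A (c * a') = d' * A a') : d = d' := by
  have hAa : A a ≠ 0 := fun h => ha (hA_inj a h)
  have haa : a + a' ≠ 0 := by
    intro h0
    apply hind 1 (map_one φ)
    linear_combination h0 - a * h2
  obtain ⟨d'', hd'', h''⟩ := line φ hφ2 h2 A B hA_add hA_inj hB_add hN (a + a') haa c hc
  have e1 : (d'' - d) * A a = (d' - d'') * A a' := by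
    have e2 : A (c * (a + a')) = d * A a + d' * A a' := by
      rw [mul_add, hA_add, h, h']
    rw [h'', hA_add] at e2
    linear_combination e2
  have e3 : d' = d'' := by
    by_contra hne
    have hne' : d' - d'' ≠ 0 := sub_ne_zero.mpr hne
    have e4 : A a' = ((d'' - d) / (d' - d'')) * A a := by
      field_simp
      linear_combination -e1
    have e5 : bt φ (A a') (A a) = 0 := by
      apply (bt_zero_iff φ hφ2 h2 (A a') (A a) hAa).mpr
      refine ⟨(d'' - d) / (d' - d''), ?_, e4⟩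
      rw [map_div₀, map_sub, map_sub, hd, hd', hd'']
    rw [bt_A φ hφ2 h2 A B hA_add hB_add hN] at e5
    have e6 := hB_inj _ (bt_fix φ hφ2 a' a) e5
    obtain ⟨c₀, hc₀, hc₀'⟩ := (bt_zero_iff φ hφ2 h2 a' a ha).mp e6
    exact hind c₀ hc₀ hc₀'
  rw [e3, sub_self, zero_mul] at e1
  rcases mul_eq_zero.mp e1 with h5 | h5
  · linear_combination -e3 - h5
  · exact absurd h5 hAa

include hφ2 hφne h2 hA_add hA_inj hB_add hB_fix hB_inj hN in
theorem star (c u u' : F) (hc : φ c = c) (hu : φ u = u) (hu' : φ u' = u') (hu0 : u ≠ 0)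
    (hu'0 : u' ≠ 0) : B (c ^ 2 * u) * B u' = B (c ^ 2 * u') * B u := by
  obtain ⟨a, ha⟩ := Cfsg.Agent.S0755.norm_surj φ hφne hφ2 u hu hu0
  obtain ⟨a', ha'⟩ := Cfsg.Agent.S0755.norm_surj φ hφne hφ2 u' hu' hu'0
  have hNa : Nm φ a = u := by rw [Nm, mul_comm]; exact ha
  have hNa' : Nm φ a' = u' := by rw [Nm, mul_comm]; exact ha'
  have ha0 : a ≠ 0 := by
    rintro rfl
    rw [Nm, zero_mul] at hNa
    exact hu0 hNa.symm
  have ha'0 : a' ≠ 0 := by
    rintro rfl
    rw [Nm, zero_mul] at hNa'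
    exact hu'0 hNa'.symm
  obtain ⟨d, hd, hda⟩ := line φ hφ2 h2 A B hA_add hA_inj hB_add hN a ha0 c hc
  obtain ⟨d', hd', hda'⟩ := line φ hφ2 h2 A B hA_add hA_inj hB_add hN a' ha'0 c hc
  have hdd : d = d' := by
    by_cases hind : ∀ c₁, φ c₁ = c₁ → a' ≠ c₁ * a
    · exact indep φ hφ2 h2 A B hA_add hA_inj hB_add hB_fix hB_inj hN a a' ha0 hind c d d' hc hd
        hd' hda hda'
    · push Not at hind
      obtain ⟨c₁, hc₁, hc₁'⟩ := hind
      have hc₁0 : c₁ ≠ 0 := by
        rintro rfl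
        rw [zero_mul] at hc₁'
        exact ha'0 hc₁'
      obtain ⟨ζ, hζ⟩ : ∃ x : F, φ x ≠ x := by
        by_contra hcon
        push Not at hcon
        exact hφne (RingHom.ext hcon)
      have hζa : ζ * a ≠ 0 := by
        apply mul_ne_zero _ ha0
        rintro rfl
        exact hζ (map_zero φ)
      obtain ⟨d'', hd'', hda''⟩ :=
        line φ hφ2 h2 A B hA_add hA_inj hB_add hN (ζ * a) hζa c hc
      have i1 : ∀ c₂, φ c₂ = c₂ → ζ * a ≠ c₂ * a := by
        intro c₂ hc₂ h
        apply hζ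
        rw [mul_right_cancel₀ ha0 h, hc₂]
      have i2 : ∀ c₂, φ c₂ = c₂ → ζ * a ≠ c₂ * a' := by
        intro c₂ hc₂ h
        apply hζ
        rw [hc₁', ← mul_assoc] at h
        rw [mul_right_cancel₀ ha0 h, map_mul, hc₂, hc₁]
      have j1 := indep φ hφ2 h2 A B hA_add hA_inj hB_add hB_fix hB_inj hN a (ζ * a) ha0 i1 c d
        d'' hc hd hd'' hda (by rw [← hda''])
      have j2 := indep φ hφ2 h2 A B hA_add hA_inj hB_add hB_fix hB_inj hN a' (ζ * a) ha'0 i2 c
        d' d'' hc hd' hd'' hda' (by rw [← hda''])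
      rw [j1, j2]
  have s1 := line_sq φ A B hN a c d hc hd hda
  have s2 := line_sq φ A B hN a' c d' hc hd' hda'
  rw [hNa] at s1
  rw [hNa', ← hdd] at s2
  rw [← s1, ← s2]
  ring

include hφ2 hφne h2 hA_add hA_inj hB_add hB_fix hB_inj hN in
theorem starstar (c u : F) (hc : φ c = c) (hu : φ u = u) : B (c * u) * B 1 = B c * B u := by
  by_cases hu0 : u = 0
  · rw [hu0, mul_zero, B_zero φ B hB_add, zero_mul, mul_zero]
  · obtain ⟨d, hd, hd2⟩ := exists_sqrt φ h2 c hc
    have h := star φ hφ2 hφne h2 A B hA_add hA_inj hB_add hB_fix hB_inj hN d u 1 hd hu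
      (map_one φ) hu0 one_ne_zero
    rw [hd2, mul_one] at h
    exact h

end core

section coreD

variable {F : Type*} [Field F] [Fintype F] (φ : F →+* F) (hφ2 : ∀ a : F, φ (φ a) = a)
  (hφne : φ ≠ RingHom.id F) (h2 : (2 : F) = 0)
  (A B : F → F)
  (hA_add : ∀ x y, A (x + y) = A x + A y) (hA_inj : ∀ x, A x = 0 → x = 0)
  (hB_add : ∀ x y, φ x = x → φ y = y → B (x + y) = B x + B y)
  (hB_fix : ∀ x, φ x = x → φ (B x) = B x)
  (hB_inj : ∀ x, φ x = x → B x = 0 → x = 0)
  (hN : ∀ a, Nm φ (A a) = B (Nm φ a))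

/-- The normalised map. -/
def Th (B : F → F) (c : F) : F := B c / B 1

omit [Fintype F] in
include hB_inj in
theorem mu_ne : B 1 ≠ 0 := fun h => one_ne_zero (hB_inj 1 (map_one φ) h)

omit [Fintype F] in
include hB_fix in
theorem Th_fix (c : F) (hc : φ c = c) : φ (Th B c) = Th B c := by
  rw [Th, map_div₀, hB_fix c hc, hB_fix 1 (map_one φ)]

include hφ2 hφne h2 hA_add hA_inj hB_add hB_fix hB_inj hN in
theorem Th_mul (c u : F) (hc : φ c = c) (hu : φ u = u) : Th B (c * u) = Th B c * Th B u := by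
  have hμ := mu_ne φ B hB_inj
  have h := starstar φ hφ2 hφne h2 A B hA_add hA_inj hB_add hB_fix hB_inj hN c u hc hu
  rw [Th, Th, Th, div_mul_div_comm, div_eq_div_iff hμ (mul_ne_zero hμ hμ)]
  linear_combination (B 1) * h

omit [Fintype F] in
include hB_add in
theorem Th_add (c u : F) (hc : φ c = c) (hu : φ u = u) : Th B (c + u) = Th B c + Th B u := by
  rw [Th, Th, Th, hB_add c u hc hu, add_div]

omit [Fintype F] in
include hB_inj in
theorem Th_one : Th B 1 = 1 := div_self (mu_ne φ B hB_inj)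

omit [Fintype F] in
include hB_add in
theorem Th_zero : Th B 0 = 0 := by
  rw [Th, B_zero φ B hB_add, zero_div]

omit [Fintype F] in
include hB_inj in
theorem B_eq (c : F) : B c = B 1 * Th B c := by
  rw [Th, mul_div_cancel₀ _ (mu_ne φ B hB_inj)]

include hφ2 hφne h2 hA_add hA_inj hB_add hB_fix hB_inj hN in
theorem semi (c : F) (hc : φ c = c) (a : F) : A (c * a) = Th B c * A a := by
  by_cases ha : a = 0
  · rw [ha, mul_zero, A_zero A hA_add, mul_zero]
  have hμ := mu_ne φ B hB_inj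
  obtain ⟨d, hd, hda⟩ := line φ hφ2 h2 A B hA_add hA_inj hB_add hN a ha c hc
  have s1 := line_sq φ A B hN a c d hc hd hda
  have s2 := starstar φ hφ2 hφne h2 A B hA_add hA_inj hB_add hB_fix hB_inj hN (c ^ 2) (Nm φ a)
    (by rw [map_pow, hc]) (Nm_fix φ hφ2 a)
  have hBN : B (Nm φ a) ≠ 0 := fun h => ha (Nm_eq_zero φ hφ2 a (hB_inj _ (Nm_fix φ hφ2 a) h))
  have s3 : d ^ 2 = Th B c ^ 2 := by
    have e1 : Th B (c ^ 2) = Th B c ^ 2 := by
      rw [pow_two, Th_mul φ hφ2 hφne h2 A B hA_add hA_inj hB_add hB_fix hB_inj hN c c hc hc,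
        pow_two]
    rw [← e1, Th, eq_div_iff hμ]
    apply mul_right_cancel₀ hBN
    linear_combination (B 1) * s1 + s2
  rw [hda, sq_inj' h2 d (Th B c) s3]

variable (hA2 : ∀ a, A (A a) = a) (hB2 : ∀ b, φ b = b → B (B b) = b)

include hφ2 hφne h2 hA_add hA_inj hB_add hB_fix hB_inj hN hB2 in
theorem Th_Th (c : F) (hc : φ c = c) : Th B (Th B c) = c := by
  have hμ : φ (B 1) = B 1 := hB_fix 1 (map_one φ)
  have e1 : B (B 1) = 1 := hB2 1 (map_one φ)
  have e2 : B 1 * Th B (B 1) = 1 := by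
    rw [← B_eq φ B hB_inj]
    exact e1
  have e3 : B (B c) = c := hB2 c hc
  rw [B_eq φ B hB_inj (B c)] at e3
  have e4 : Th B (B c) = Th B (B 1) * Th B (Th B c) := by
    conv_lhs => rw [B_eq φ B hB_inj c]
    exact Th_mul φ hφ2 hφne h2 A B hA_add hA_inj hB_add hB_fix hB_inj hN (B 1) (Th B c) hμ
      (Th_fix φ B hB_fix c hc)
  rw [e4] at e3
  linear_combination e3 - Th B (Th B c) * e2

include hφ2 hφne h2 hA_add hA_inj hB_add hB_fix hB_inj hN hA2 hB2 in
/-- The key statement: an involutory pair `(A, B)` compatible with the norm form has `B`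
trivial on the fixed field. -/
theorem core (b : F) (hb : φ b = b) : B b = b := by
  classical
  have hμ0 := mu_ne φ B hB_inj
  have hμ : φ (B 1) = B 1 := hB_fix 1 (map_one φ)
  have Tmul := Th_mul φ hφ2 hφne h2 A B hA_add hA_inj hB_add hB_fix hB_inj hN
  have Tadd := Th_add φ B hB_add
  have Tfix := Th_fix φ B hB_fix
  have TT := Th_Th φ hφ2 hφne h2 A B hA_add hA_inj hB_add hB_fix hB_inj hN hB2
  have sem := semi φ hφ2 hφne h2 A B hA_add hA_inj hB_add hB_fix hB_inj hN
  by_cases hΘ : ∀ c, φ c = c → Th B c = c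
  · have e1 : B (B 1) = 1 := hB2 1 (map_one φ)
    rw [B_eq φ B hB_inj (B 1), hΘ (B 1) hμ] at e1
    have e2 : (B 1 - 1) ^ 2 = 0 := by linear_combination e1 - (B 1 - 1) * h2
    have e3 : B 1 = 1 := sub_eq_zero.mp ((pow_eq_zero_iff two_ne_zero).mp e2)
    rw [B_eq φ B hB_inj b, hΘ b hb, e3, one_mul]
  · exfalso
    push Not at hΘ
    obtain ⟨e, he, hΘe⟩ := hΘ
    obtain ⟨a₀, ha₀0, ha₀⟩ : ∃ a₀, a₀ ≠ 0 ∧ A a₀ = a₀ := by
      by_cases h1 : A 1 = 1
      · exact ⟨1, one_ne_zero, h1⟩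
      · refine ⟨1 + A 1, ?_, ?_⟩
        · intro h
          apply h1
          linear_combination h - h2
        · rw [hA_add, hA2, add_comm]
    obtain ⟨a', ha', hind⟩ : ∃ a', A a' = a' ∧ ∀ c, φ c = c → a' ≠ c * a₀ := by
      by_contra hcon
      push Not at hcon
      have hW_le : (Finset.univ.filter (fun a => A a = a)).card ≤
          (Finset.univ.filter (fun c => φ c = c ∧ Th B c = c)).card := by
        have hsub : (Finset.univ.filter (fun a => A a = a)) ⊆
            (Finset.univ.filter (fun c => φ c = c ∧ Th B c = c)).image (fun c => c * a₀) := by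
          intro a ha
          rw [Finset.mem_filter] at ha
          obtain ⟨c, hc, hca⟩ := hcon a ha.2
          rw [Finset.mem_image]
          refine ⟨c, ?_, hca.symm⟩
          rw [Finset.mem_filter]
          refine ⟨Finset.mem_univ _, hc, ?_⟩
          have h5 := sem c hc a₀
          rw [← hca, ha.2, ha₀] at h5
          apply mul_right_cancel₀ ha₀0
          rw [← h5, hca]
        exact (Finset.card_le_card hsub).trans Finset.card_image_le
      have hK_lt : (Finset.univ.filter (fun c => φ c = c ∧ Th B c = c)).card <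
          (Finset.univ.filter (fun c => φ c = c)).card := by
        apply Finset.card_lt_card
        rw [Finset.ssubset_iff_of_subset (fun c hc => by
          rw [Finset.mem_filter] at hc ⊢
          exact ⟨hc.1, hc.2.1⟩)]
        refine ⟨e, by rw [Finset.mem_filter]; exact ⟨Finset.mem_univ _, he⟩, ?_⟩
        rw [Finset.mem_filter]
        rintro ⟨-, -, h⟩
        exact hΘe h
      have hF_le : Fintype.card F ≤ (Finset.univ.filter (fun a => A a = a)).card *
          (Finset.univ.filter (fun a => A a = a)).card := by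
        rw [← Finset.card_univ]
        apply Finset.card_le_mul_card_image_of_maps_to (f := fun x => x + A x)
        · intro x _
          rw [Finset.mem_filter]
          refine ⟨Finset.mem_univ _, ?_⟩
          rw [hA_add, hA2, add_comm]
        · intro b₁ hb₁
          rcases (Finset.univ.filter (fun a => a + A a = b₁)).eq_empty_or_nonempty with
            hemp | ⟨a₁, ha₁⟩
          · rw [hemp]
            simp
          · rw [Finset.mem_filter] at ha₁
            apply Finset.card_le_card_of_injOn (fun a => a + a₁)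
            · intro a ha
              rw [Finset.mem_coe, Finset.mem_filter] at ha
              rw [Finset.mem_coe, Finset.mem_filter]
              refine ⟨Finset.mem_univ _, ?_⟩
              rw [hA_add]
              linear_combination ha.2 + ha₁.2 - (a + a₁ - b₁) * h2
            · intro a _ a₂ _ h
              exact add_right_cancel h
      have hFF : Fintype.card F = (Finset.univ.filter (fun c => φ c = c)).card ^ 2 := by
        have h1 := card_fix_sq φ hφ2 hφne
        rw [Nat.card_eq_fintype_card, Nat.card_eq_fintype_card, Fintype.card_subtype] at h1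
        exact h1
      have h3 : (Finset.univ.filter (fun a => A a = a)).card <
          (Finset.univ.filter (fun c => φ c = c)).card := lt_of_le_of_lt hW_le hK_lt
      have h4 := Nat.mul_self_lt_mul_self h3
      rw [sq] at hFF
      omega
    have ha'0 : a' ≠ 0 := by
      intro h
      exact hind 0 (map_zero φ) (by rw [h, zero_mul])
    have hu : B (Nm φ a₀) = Nm φ a₀ := by
      have h := hN a₀
      rw [ha₀] at h
      exact h.symm
    have hu' : B (Nm φ a') = Nm φ a' := by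
      have h := hN a'
      rw [ha'] at h
      exact h.symm
    have hw : B (bt φ a₀ a') = bt φ a₀ a' := by
      have h := bt_A φ hφ2 h2 A B hA_add hB_add hN a₀ a'
      rw [ha₀, ha'] at h
      exact h.symm
    have hw0 : bt φ a₀ a' ≠ 0 := by
      intro h
      rw [bt_comm] at h
      obtain ⟨c, hc, hca⟩ := (bt_zero_iff φ hφ2 h2 a' a₀ ha₀0).mp h
      exact hind c hc hca
    have hwf : φ (bt φ a₀ a') = bt φ a₀ a' := bt_fix φ hφ2 _ _
    have hk : ∀ y, φ y = y → B y = y →
        (φ (y / bt φ a₀ a') = y / bt φ a₀ a' ∧ Th B (y / bt φ a₀ a') = y / bt φ a₀ a') := by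
      intro y hy hBy
      have hf : φ (y / bt φ a₀ a') = y / bt φ a₀ a' := by rw [map_div₀, hy, hwf]
      refine ⟨hf, ?_⟩
      have h5 := Tmul (y / bt φ a₀ a') (bt φ a₀ a') hf hwf
      rw [div_mul_cancel₀ y hw0] at h5
      have h6 : Th B y = y / B 1 := by rw [Th, hBy]
      have h7 : Th B (bt φ a₀ a') = bt φ a₀ a' / B 1 := by rw [Th, hw]
      rw [h6, h7] at h5
      rw [eq_div_iff hw0]
      have h8 := congrArg (fun z => z * B 1) h5
      rw [div_mul_cancel₀ y hμ0, mul_assoc, div_mul_cancel₀ _ hμ0] at h8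
      exact h8.symm
    obtain ⟨hkf, hkT⟩ := hk (Nm φ a₀) (Nm_fix φ hφ2 a₀) hu
    obtain ⟨hk'f, hk'T⟩ := hk (Nm φ a') (Nm_fix φ hφ2 a') hu'
    obtain ⟨k, hkdef⟩ : ∃ k, k = Nm φ a₀ / bt φ a₀ a' := ⟨_, rfl⟩
    obtain ⟨k', hk'def⟩ : ∃ k', k' = Nm φ a' / bt φ a₀ a' := ⟨_, rfl⟩
    rw [← hkdef] at hkf hkT
    rw [← hk'def] at hk'f hk'T
    obtain ⟨c, c', hc, hc', hcc, hiso⟩ : ∃ c c', φ c = c ∧ φ c' = c' ∧ (c ≠ 0 ∨ c' ≠ 0) ∧
        k * c ^ 2 + c * c' + k' * c' ^ 2 = 0 := by
      by_cases hk0 : k = 0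
      · exact ⟨1, 0, map_one φ, map_zero φ, Or.inl one_ne_zero, by rw [hk0]; ring⟩
      · have hneg : ∀ x : F, -x = x := fun x => by linear_combination (-x) * h2
        let K : AddSubgroup F :=
          { carrier := {x | φ x = x ∧ Th B x = x}
            add_mem' := fun {x y} hx hy =>
              ⟨by rw [map_add, hx.1, hy.1], by rw [Tadd x y hx.1 hy.1, hx.2, hy.2]⟩
            zero_mem' := ⟨map_zero φ, Th_zero φ B hB_add⟩
            neg_mem' := fun {x} hx => by
              rw [hneg x]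
              exact hx }
        have hKmem : ∀ x, x ∈ K ↔ (φ x = x ∧ Th B x = x) := fun x => Iff.rfl
        have h1K : (1 : F) ∈ K := (hKmem 1).mpr ⟨map_one φ, Th_one φ B hB_inj⟩
        have hsqK : ∀ x ∈ K, x ^ 2 ∈ K := by
          intro x hx
          rw [hKmem] at hx ⊢
          exact ⟨by rw [map_pow, hx.1], by rw [pow_two, Tmul x x hx.1 hx.1, hx.2]⟩
        have hs0 : e + Th B e ≠ 0 := by
          intro h
          apply hΘe
          linear_combination h - e * h2
        have hsf : φ (e + Th B e) = e + Th B e := by rw [map_add, he, Tfix e he]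
        have hsT : Th B (e + Th B e) = e + Th B e := by
          rw [Tadd e (Th B e) he (Tfix e he), TT e he, add_comm]
        obtain ⟨ε, hεdef⟩ : ∃ ε, ε = e / (e + Th B e) := ⟨_, rfl⟩
        have hεf : φ ε = ε := by rw [hεdef, map_div₀, he, hsf]
        have hεs : ε * (e + Th B e) = e := by rw [hεdef, div_mul_cancel₀ _ hs0]
        have hTε : Th B ε = 1 + ε := by
          have h5 := Tmul ε (e + Th B e) hεf hsf
          rw [hεs, hsT] at h5
          have h6 : (Th B ε - (1 + ε)) * (e + Th B e) = 0 := by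
            linear_combination -h5 - hεs - e * h2
          rcases mul_eq_zero.mp h6 with h | h
          · exact sub_eq_zero.mp h
          · exact absurd h hs0
        have hεK : ε ∉ K := by
          rw [hKmem]
          rintro ⟨-, h⟩
          rw [hTε] at h
          have : (1 : F) = 0 := by linear_combination h
          exact one_ne_zero this
        have htK : ε ^ 2 + ε ∈ K := by
          rw [hKmem]
          refine ⟨by rw [map_add, map_pow, hεf], ?_⟩
          rw [Tadd (ε ^ 2) ε (by rw [map_pow, hεf]) hεf, pow_two, Tmul ε ε hεf hεf, hTε]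
          linear_combination (1 + ε) * h2
        have hmK : k * k' ∈ K := by
          rw [hKmem]
          exact ⟨by rw [map_mul, hkf, hk'f], by rw [Tmul k k' hkf hk'f, hkT, hk'T]⟩
        obtain ⟨x, hxK, hx⟩ := artin_schreier h2 K h1K hsqK ε hεK htK (k * k') hmK
        rw [hKmem] at hxK
        rcases hx with hx | hx
        · refine ⟨x, k, hxK.1, hkf, Or.inr hk0, ?_⟩
          linear_combination k * hx + (k ^ 2 * k') * h2
        · refine ⟨x + ε, k, by rw [map_add, hxK.1, hεf], hkf, Or.inr hk0, ?_⟩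
          linear_combination k * hx + (k ^ 2 * k') * h2
    have hku : Nm φ a₀ = k * bt φ a₀ a' := by rw [hkdef, div_mul_cancel₀ _ hw0]
    have hku' : Nm φ a' = k' * bt φ a₀ a' := by rw [hk'def, div_mul_cancel₀ _ hw0]
    have hNfinal : Nm φ (c * a₀ + c' * a') = 0 := by
      rw [Nm_add, Nm_smul φ c a₀ hc, Nm_smul φ c' a' hc', bt_smul φ c c' a₀ a' hc hc', hku, hku']
      linear_combination (bt φ a₀ a') * hiso
    have hfin := Nm_eq_zero φ hφ2 _ hNfinal
    by_cases hc'0 : c' = 0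
    · have hc0 : c ≠ 0 := by
        rcases hcc with h | h
        · exact h
        · exact absurd hc'0 h
      rw [hc'0, zero_mul, add_zero] at hfin
      rcases mul_eq_zero.mp hfin with h | h
      · exact hc0 h
      · exact ha₀0 h
    · apply hind (c / c') (by rw [map_div₀, hc, hc'])
      field_simp
      linear_combination hfin - (c * a₀) * h2

end coreD

section aut

variable {F : Type*} [Field F] [Fintype F] (φ : F →+* F)
  (hφ2 : ∀ a : F, φ (φ a) = a) (hφne : φ ≠ RingHom.id F) (h2 : (2 : F) = 0)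
  {P : Type*} [Group P] (e : P ≃* ↥(UG φ hφ2)) (α : P ≃* P)

omit [Fintype F] in
theorem cA_inv (p : P) : (e p⁻¹).1.a = -(e p).1.a := by
  have h := cA_mul φ hφ2 e p⁻¹ p
  rw [inv_mul_cancel, cA_one] at h
  linear_combination -h

omit [Fintype F] in
theorem center_map (z : P) (hz : z ∈ Subgroup.center P) : α z ∈ Subgroup.center P := by
  rw [Subgroup.mem_center_iff] at hz ⊢
  intro g
  have h := hz (α.symm g)
  have h' := congrArg α h
  rw [map_mul, map_mul, α.apply_symm_apply] at h'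
  exact h'

omit [Fintype F] in
include hφne in
theorem cA_congr (x y : P) (h : (e x).1.a = (e y).1.a) : (e (α x)).1.a = (e (α y)).1.a := by
  have h1 : (e (x⁻¹ * y)).1.a = 0 := by
    rw [cA_mul, cA_inv, h, neg_add_cancel]
  have h3 := (center_iff φ hφ2 hφne e _).mp
    (center_map α _ ((center_iff φ hφ2 hφne e _).mpr h1))
  rw [map_mul, cA_mul, map_inv, cA_inv] at h3
  linear_combination -h3

omit [Fintype F] in
include hφne in
theorem exists_A : ∃ A : F → F, ∀ x : P, (e (α x)).1.a = A ((e x).1.a) := by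
  classical
  refine ⟨fun a => (e (α (Classical.choose (c_mk_a φ hφ2 hφne e a)))).1.a, fun x => ?_⟩
  apply cA_congr φ hφ2 hφne e α
  exact (Classical.choose_spec (c_mk_a φ hφ2 hφne e (e x).1.a)).symm

omit [Fintype F] in
include h2 in
theorem exists_z (b : F) (hb : φ b = b) : ∃ z : P, (e z).1.a = 0 ∧ (e z).1.b = b := by
  apply c_mk φ hφ2 e 0 b
  rw [hb, zero_mul, neg_zero]
  linear_combination b * h2

omit [Fintype F] in
include h2 in
theorem exists_B : ∃ B : F → F, ∀ z : P, (e z).1.a = 0 → (e (α z)).1.b = B ((e z).1.b) := by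
  classical
  refine ⟨fun b => if hb : φ b = b then
    (e (α (Classical.choose (exists_z φ hφ2 h2 e b hb)))).1.b else 0, fun z hz => ?_⟩
  have hb := fix_of_a0 φ hφ2 h2 e z hz
  simp only [dif_pos hb]
  have hs := Classical.choose_spec (exists_z φ hφ2 h2 e _ hb)
  have h3 : Classical.choose (exists_z φ hφ2 h2 e _ hb) = z :=
    c_ext φ hφ2 e (by rw [hs.1, hz]) hs.2
  rw [h3]

include hφne h2 in
/-- An automorphism whose square is trivial on the centre and on the central quotient fixes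
the centre elementwise. -/
theorem aut_center_fix (h1 : ∀ x : P, (e (α (α x))).1.a = (e x).1.a)
    (h1' : ∀ z : P, (e z).1.a = 0 → α (α z) = z) (z : P) (hz : (e z).1.a = 0) : α z = z := by
  obtain ⟨A, hA⟩ := exists_A φ hφ2 hφne e α
  obtain ⟨B, hB⟩ := exists_B φ hφ2 h2 e α
  have hcen : ∀ z : P, (e z).1.a = 0 → (e (α z)).1.a = 0 := fun z hz =>
    (center_iff φ hφ2 hφne e _).mp (center_map α z ((center_iff φ hφ2 hφne e z).mpr hz))
  have hA_add : ∀ x y, A (x + y) = A x + A y := by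
    intro a a'
    obtain ⟨x, hx⟩ := c_mk_a φ hφ2 hφne e a
    obtain ⟨y, hy⟩ := c_mk_a φ hφ2 hφne e a'
    have h := hA (x * y)
    rw [map_mul, cA_mul, cA_mul, hA, hA, hx, hy] at h
    exact h.symm
  have hA_inj : ∀ x, A x = 0 → x = 0 := by
    intro a ha
    obtain ⟨x, hx⟩ := c_mk_a φ hφ2 hφne e a
    have h3 : (e (α x)).1.a = 0 := by rw [hA, hx, ha]
    have h4 := center_map α.symm _ ((center_iff φ hφ2 hφne e _).mpr h3)
    rw [α.symm_apply_apply] at h4
    rw [← hx]
    exact (center_iff φ hφ2 hφne e x).mp h4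
  have hB_add : ∀ x y, φ x = x → φ y = y → B (x + y) = B x + B y := by
    intro b b' hb hb'
    obtain ⟨z₁, hz₁a, hz₁b⟩ := exists_z φ hφ2 h2 e b hb
    obtain ⟨z₂, hz₂a, hz₂b⟩ := exists_z φ hφ2 h2 e b' hb'
    have h12a : (e (z₁ * z₂)).1.a = 0 := by rw [cA_mul, hz₁a, hz₂a, add_zero]
    have h12b : (e (z₁ * z₂)).1.b = b + b' := by
      rw [cB_mul, hz₁a, hz₁b, hz₂b, zero_mul, sub_zero]
    have h := hB (z₁ * z₂) h12a
    rw [map_mul, cB_mul, hcen z₁ hz₁a, zero_mul, sub_zero, hB z₁ hz₁a, hB z₂ hz₂a, h12b, hz₁b,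
      hz₂b] at h
    exact h.symm
  have hB_fix : ∀ x, φ x = x → φ (B x) = B x := by
    intro b hb
    obtain ⟨z₁, hz₁a, hz₁b⟩ := exists_z φ hφ2 h2 e b hb
    have h := fix_of_a0 φ hφ2 h2 e (α z₁) (hcen z₁ hz₁a)
    rw [hB z₁ hz₁a, hz₁b] at h
    exact h
  have hB_inj : ∀ x, φ x = x → B x = 0 → x = 0 := by
    intro b hb hb0
    obtain ⟨z₁, hz₁a, hz₁b⟩ := exists_z φ hφ2 h2 e b hb
    have h3 : α z₁ = 1 := by
      apply c_ext φ hφ2 e
      · rw [hcen z₁ hz₁a, cA_one]
      · rw [hB z₁ hz₁a, hz₁b, hb0, cB_one]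
    have h4 : z₁ = 1 := by
      have h5 := congrArg α.symm h3
      rwa [α.symm_apply_apply, map_one] at h5
    rw [← hz₁b, h4, cB_one]
  have hN : ∀ a, Nm φ (A a) = B (Nm φ a) := by
    intro a
    obtain ⟨x, hx⟩ := c_mk_a φ hφ2 hφne e a
    have hxa : (e (x * x)).1.a = 0 := by
      rw [cA_mul, hx]
      linear_combination a * h2
    have hxb : ∀ y : P, (e (y * y)).1.b = Nm φ (e y).1.a := by
      intro y
      rw [cB_mul, Nm]
      linear_combination ((e y).1.b - (e y).1.a * φ (e y).1.a) * h2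
    have h := hB (x * x) hxa
    rw [map_mul, hxb, hxb, hA, hx] at h
    exact h
  have hA2 : ∀ a, A (A a) = a := by
    intro a
    obtain ⟨x, hx⟩ := c_mk_a φ hφ2 hφne e a
    rw [← hx, ← hA, ← hA, h1]
  have hB2 : ∀ b, φ b = b → B (B b) = b := by
    intro b hb
    obtain ⟨z₁, hz₁a, hz₁b⟩ := exists_z φ hφ2 h2 e b hb
    rw [← hz₁b, ← hB z₁ hz₁a, ← hB (α z₁) (hcen z₁ hz₁a), h1' z₁ hz₁a]
  have hcore := core φ hφ2 hφne h2 A B hA_add hA_inj hB_add hB_fix hB_inj hN hA2 hB2
  apply c_ext φ hφ2 e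
  · rw [hcen z hz, hz]
  · rw [hB z hz, hcore _ (fix_of_a0 φ hφ2 h2 e z hz)]

end aut

section sylSU

variable {F : Type*} [Field F] [Fintype F] {q : ℕ} (φ : F →+* F)
  (hφq : ∀ a : F, φ a = a ^ q) (hφ2 : ∀ a : F, φ (φ a) = a) (hφne : φ ≠ RingHom.id F)
  (hF : Fintype.card F = q ^ 2)

include hφq hφ2 hφne hF in
/-- Every Sylow 2-subgroup of `SU₃(2^m)` is isomorphic to the explicit unipotent group. -/
theorem exists_equiv_SU (m : ℕ) (hm : 1 ≤ m) (hq : q = 2 ^ m) (S : Sylow 2 ↥(SU 3 F q)) :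
    Nonempty (↥(S : Subgroup ↥(SU 3 F q)) ≃* ↥(UG φ hφ2)) := by
  classical
  have h2 : (2 : F) = 0 := two_eq_zero_of hF m hm hq
  obtain ⟨fr⟩ := exists_frame φ hφq hφ2 hφne h2
  have hinj := suHom_injective φ hφq hφ2 fr
  let e₀ : ↥(UG φ hφ2) ≃* ↥(suHom φ hφq hφ2 fr).range := MonoidHom.ofInjective hinj
  have hP0card : Nat.card ↥(suHom φ hφq hφ2 fr).range = q ^ 3 := by
    rw [← Nat.card_congr e₀.toEquiv, card_UG φ hφ2 hφne hF h2]
  have hq3 : q ^ 3 = 2 ^ (3 * m) := by
    rw [hq, ← pow_mul, mul_comm]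
  have hP0 : IsPGroup 2 ↥(suHom φ hφq hφ2 fr).range :=
    IsPGroup.of_card (n := 3 * m) (by rw [hP0card, hq3])
  obtain ⟨S₁, hS₁⟩ := hP0.exists_le_sylow
  have hS₁card : Nat.card ↥(S₁ : Subgroup ↥(SU 3 F q)) = q ^ 3 := by
    obtain ⟨k, hk⟩ := IsPGroup.iff_card.mp S₁.isPGroup'
    have h1 : q ^ 3 ≤ 2 ^ k := by
      rw [← hk, ← hP0card]
      exact Subgroup.card_le_of_le hS₁
    have hSU := card_SU3 hF
    have h3 : 2 ^ k ∣ Nat.card ↥(SU 3 F q) := by
      rw [← hk]
      exact Subgroup.card_subgroup_dvd_card _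
    rw [hSU] at h3
    have hqe : Even q := by
      rw [hq]
      exact (Nat.even_pow.mpr ⟨even_two, by omega⟩)
    have hodd : Odd ((q ^ 2 - 1) * (q ^ 3 + 1)) := by
      apply Odd.mul
      · exact Nat.Even.sub_odd (Nat.one_le_pow _ _ (by rw [hq]; positivity))
          (Nat.even_pow.mpr ⟨hqe, by norm_num⟩) odd_one
      · exact (Nat.even_pow.mpr ⟨hqe, by norm_num⟩).add_one
    have hcop : Nat.Coprime (2 ^ k) ((q ^ 2 - 1) * (q ^ 3 + 1)) :=
      Nat.Coprime.pow_left k (Nat.coprime_two_left.mpr hodd)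
    have h4 : 2 ^ k ∣ q ^ 3 := hcop.dvd_of_dvd_mul_right h3
    have h5 : 2 ^ k ≤ q ^ 3 := Nat.le_of_dvd (by rw [hq]; positivity) h4
    rw [hk]
    omega
  have hEq : (suHom φ hφq hφ2 fr).range = (S₁ : Subgroup ↥(SU 3 F q)) :=
    Subgroup.eq_of_le_of_card_ge hS₁ (by rw [hP0card, hS₁card])
  obtain ⟨g, hg⟩ := MulAction.exists_smul_eq ↥(SU 3 F q) S₁ S
  have e₁ : ↥(S₁ : Subgroup ↥(SU 3 F q)) ≃* ↥(S : Subgroup ↥(SU 3 F q)) := by
    rw [← hg]
    exact Sylow.equivSMul S₁ g
  exact ⟨(e₁.symm.trans (MulEquiv.subgroupCongr hEq).symm).trans e₀.symm⟩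

end sylSU

end Cfsg.Agent.Lib.Helper7.SU3Aut
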